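import Groth.Agent.AGStr.Descend
import Groth.Agent.GrpSchLib.Coincidence
import Groth.Agent.GrpSchLib.HomFlat
import Groth.Agent.GrpSchLib.AntiAffineHom
import Groth.Prelude.Def_ChGrp

/-! Descent of an action along a faithfully flat homomorphism whose kernel acts trivially. -/

universe u

open CategoryTheory Limits AlgebraicGeometry MonoidalCategory CartesianMonoidalCategory MonObj GrpObj

namespace Groth.Agent.AGStr

variable {k : Type u} [Field k] {A B : Over (Spec (CommRingCat.of k))} (g : A ⟶ B)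
  [Flat g.left] [Surjective g.left] [QuasiCompact g.left] (P : Over (Spec (CommRingCat.of k)))

theorem cover_whiskerRight : Flat (g ▷ P).left ∧ Surjective (g ▷ P).left ∧ QuasiCompact (g ▷ P).left :=
  ⟨MorphismProperty.of_isPullback (GrpSchLib.isPullback_whiskerRight g P).flip ‹Flat g.left›,
   MorphismProperty.of_isPullback (GrpSchLib.isPullback_whiskerRight g P).flip ‹Surjective g.left›,
   MorphismProperty.of_isPullback (GrpSchLib.isPullback_whiskerRight g P).flip ‹QuasiCompact g.left›⟩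

theorem cover_whiskerLeft : Flat (P ◁ g).left ∧ Surjective (P ◁ g).left ∧ QuasiCompact (P ◁ g).left :=
  ⟨MorphismProperty.of_isPullback (GrpSchLib.isPullback_whiskerLeft (W := P) g).flip ‹Flat g.left›,
   MorphismProperty.of_isPullback (GrpSchLib.isPullback_whiskerLeft (W := P) g).flip ‹Surjective g.left›,
   MorphismProperty.of_isPullback (GrpSchLib.isPullback_whiskerLeft (W := P) g).flip ‹QuasiCompact g.left›⟩

theorem epi_whiskerRight : Epi (g ▷ P) := by
  obtain ⟨h1, h2, h3⟩ := cover_whiskerRight g P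
  haveI := h1; haveI := h2; haveI := h3
  exact epi_left _

theorem epi_whiskerLeft : Epi (P ◁ g) := by
  obtain ⟨h1, h2, h3⟩ := cover_whiskerLeft g P
  haveI := h1; haveI := h2; haveI := h3
  exact epi_left _

variable {G N Q X : Over (Spec (CommRingCat.of k))} [GrpObj G] [GrpObj N] [GrpObj Q]
  (n : N ⟶ G) (π : G ⟶ Q) [IsMonHom π] [Flat π.left] [Surjective π.left] [QuasiCompact π.left]
  (a : AlgGrp.Action G X)

theorem exists_action_desc (hker : AlgGrp.IsKernel n π)
    (hn : ∀ (T : Over (Spec (CommRingCat.of k))) (m : T ⟶ N) (x : T ⟶ X), lift (m ≫ n) x ≫ a.act = x) :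
    ∃ b : AlgGrp.Action Q X, (π ▷ X) ≫ b.act = a.act := by
  obtain ⟨h1, h2, h3⟩ := cover_whiskerRight π X
  haveI := h1; haveI := h2; haveI := h3
  obtain ⟨b, hb⟩ := exists_desc (π ▷ X) a.act (fun T p₁ p₂ h => by
    have e1 : ∀ p : T ⟶ G ⊗ X, p = lift (p ≫ fst G X) (p ≫ snd G X) := fun p =>
      CartesianMonoidalCategory.hom_ext _ _ (by simp) (by simp)
    have hx : p₁ ≫ snd G X = p₂ ≫ snd G X := by simpa using congrArg (· ≫ snd Q X) h
    have hg : (p₁ ≫ fst G X) ≫ π = (p₂ ≫ fst G X) ≫ π := by simpa using congrArg (· ≫ fst Q X) h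
    obtain ⟨m, hm, -⟩ : ∃ m : T ⟶ N, m ≫ n = (p₂ ≫ fst G X)⁻¹ * (p₁ ≫ fst G X) ∧ True := by
      refine ⟨hker.lift ((p₂ ≫ fst G X)⁻¹ * (p₁ ≫ fst G X)) (toUnit T) ?_, hker.lift_fst _ _ _, trivial⟩
      rw [MonObj.mul_comp, GrpObj.inv_comp, hg, inv_mul_cancel]
      rfl
    rw [e1 p₁, e1 p₂, ← hx, show p₁ ≫ fst G X = (p₂ ≫ fst G X) * (m ≫ n) by rw [hm, mul_inv_cancel_left],
      AlgGrp.Action.lift_mul_act, hn])
  have hb' : ∀ (T : Over (Spec (CommRingCat.of k))) (p : T ⟶ G) (x : T ⟶ X),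
      lift (p ≫ π) x ≫ b = lift p x ≫ a.act := fun T p x => by
    rw [← hb, lift_whiskerRight_assoc]
  refine ⟨⟨b, ?_, ?_⟩, hb⟩
  · rw [← IsMonHom.one_hom π, comp_whiskerRight, Category.assoc, hb, a.one_act]
  · obtain ⟨r1, r2, r3⟩ := cover_whiskerRight π G
    haveI := r1; haveI := r2; haveI := r3
    obtain ⟨l1, l2, l3⟩ := cover_whiskerLeft π Q
    haveI := l1; haveI := l2; haveI := l3
    haveI := epi_whiskerRight (π ▷ G) X
    haveI := epi_whiskerRight (Q ◁ π) X
    rw [← cancel_epi ((Q ◁ π) ▷ X), ← cancel_epi ((π ▷ G) ▷ X)]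
    refine AlgGrp.Action.hom_ext_lift₃ fun T p p' x => ?_
    simp only [lift_whiskerRight_assoc, lift_whiskerRight, lift_whiskerLeft, lift_whiskerLeft_assoc]
    rw [← Hom.mul_def, ← MonObj.mul_comp, hb', AlgGrp.Action.lift_mul_act, lift_lift_associator_hom_assoc,
      lift_whiskerLeft_assoc, hb', hb']

end Groth.Agent.AGStr
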