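import Groth.Agent.S11424
import Groth.Agent.GrpSchLib.AntiAffineHom

/-! A quotient morphism with affine kernel is affine. -/

universe u

open CategoryTheory Limits AlgebraicGeometry MonoidalCategory CartesianMonoidalCategory MonObj GrpObj

namespace Groth.Agent.AGStr

theorem isAffineHom_of_isKernel {k : Type u} [Field k] {G H Q : Over (Spec (CommRingCat.of k))} [GrpObj G]
    [GrpObj H] [GrpObj Q] [LocallyOfFiniteType G.hom] [QuasiCompact G.hom] [LocallyOfFiniteType Q.hom]
    [QuasiCompact Q.hom] (h : H ⟶ G) [IsMonHom h] [IsAffine H.left]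
    (q : G ⟶ Q) [IsMonHom q] [Surjective q.left] [Flat q.left] (hk : AlgGrp.IsKernel h q) :
    IsAffineHom q.left := by
  have := EtFound.fpqc_isAffineHom.{u}
  obtain ⟨-, -, hqc⟩ := GrpSchLib.isCover_of_flat_surjective q
  obtain ⟨p, hp, hps⟩ := GrpSchLib.exists_kernelPair_iso h q hk
  have : IsAffineHom H.hom := inferInstance
  have h1 : IsAffineHom (snd H G).left := by
    set_option backward.isDefEq.respectTransparency.types false in
    exact MorphismProperty.pullback_snd (P := (@IsAffineHom : MorphismProperty Scheme.{u})) H.hom G.hom inferInstance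
  rw [← hps] at h1
  have h2 : IsAffineHom (Limits.pullback.snd q.left q.left) := by
    rw [← IsIso.inv_hom_id_assoc p (Limits.pullback.snd q.left q.left)]
    infer_instance
  exact MorphismProperty.of_pullback_snd_of_descendsAlong (P := @IsAffineHom)
    (Q := @Surjective ⊓ @Flat ⊓ @QuasiCompact) (f := q.left) (g := q.left)
    ⟨⟨inferInstance, inferInstance⟩, hqc⟩ h2

end Groth.Agent.AGStr
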