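import Groth.Prelude.Def_Red
import Groth.Agent.GrpSchLib.HomClosedRange
import Groth.Agent.GrpSchLib.AdjointQuot
import Groth.Agent.H23.RedSub
import Mathlib.AlgebraicGeometry.Morphisms.UniversallyInjective
import Mathlib.AlgebraicGeometry.Morphisms.UniversallyOpen
import Mathlib.AlgebraicGeometry.Morphisms.Proper
import Mathlib.AlgebraicGeometry.Morphisms.Finite

/-! Elementary tools on connected components, factorisations and universal homeomorphisms
for group schemes over a field. -/

universe u

open CategoryTheory Limits AlgebraicGeometry MonoidalCategory CartesianMonoidalCategory MonObj GrpObj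

namespace Groth.Agent.AGStr

section Field

variable {k : Type u} [Field k]

instance subsingleton_unit : Subsingleton ↥(𝟙_ (Over (Spec (CommRingCat.of k)))).left :=
  inferInstanceAs (Subsingleton (PrimeSpectrum k))

theorem apply_eq_of_subsingleton {S X : Scheme.{u}} [Subsingleton ↥S] (f : S ⟶ X) (x y : ↥S) : f x = f y :=
  congrArg _ (Subsingleton.elim x y)

variable {G G₀ : Over (Spec (CommRingCat.of k))} [GrpObj G] [GrpObj G₀] [LocallyOfFiniteType G.hom]
  [LocallyOfFiniteType G₀.hom] (i₀ : G₀ ⟶ G) [IsMonHom i₀]

theorem unit_mem_range (t : ↥(𝟙_ (Over (Spec (CommRingCat.of k)))).left) :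
    η[G].left t ∈ Set.range i₀.left :=
  ⟨η[G₀].left t, by rw [← Scheme.Hom.comp_apply, ← Over.comp_left, IsMonHom.one_hom (f := i₀)]⟩

/-- The range of a connected open subgroup scheme is the connected component of the unit. -/
theorem range_eq_connectedComponent [QuasiCompact G₀.hom] [IsOpenImmersion i₀.left] [ConnectedSpace G₀.left]
    (t : ↥(𝟙_ (Over (Spec (CommRingCat.of k)))).left) :
    Set.range i₀.left = connectedComponent (η[G].left t) := by
  have hc : _root_.IsPreconnected (Set.range i₀.left) := isPreconnected_range i₀.left.continuous
  refine (hc.subset_connectedComponent (unit_mem_range i₀ t)).antisymm ?_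
  haveI := GrpSchLib.AntiAffine.isSeparated_grp G
  haveI : QuasiCompact (i₀.left ≫ G.hom) := by rw [Over.w i₀]; infer_instance
  haveI : QuasiCompact i₀.left := QuasiCompact.of_comp i₀.left G.hom
  exact IsClopen.connectedComponent_subset
    ⟨GrpSchLib.HomClosedRange.isClosed_range i₀, i₀.left.isOpenEmbedding.isOpen_range⟩
    (unit_mem_range i₀ t)

/-- A connected group scheme of finite type stays connected after extension of the base field. -/
theorem connectedSpace_pullback {G : Over (Spec (CommRingCat.of k))} [GrpObj G] [LocallyOfFiniteType G.hom]
    [QuasiCompact G.hom] [ConnectedSpace G.left] (K : Type u) [Field K]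
    (x : Spec (CommRingCat.of K) ⟶ Spec (CommRingCat.of k)) :
    ConnectedSpace ↥(pullback G.hom x) := by
  haveI := GrpSchLib.Adjoint.geometricallyIrreducible (G := G)
  haveI : IrreducibleSpace ↥(pullback G.hom x) :=
    GeometricallyIrreducible.geometrically_irreducibleSpace (f := G.hom) x _ _ (IsPullback.of_hasPullback _ _)
  infer_instance

end Field

/-- A finite type universal homeomorphism, presented as a surjective, universally open and universally
injective morphism, is finite. -/
theorem isFinite_of_universal_homeomorph {X Y : Scheme.{u}} (f : X ⟶ Y) [LocallyOfFiniteType f]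
    [Surjective f] [UniversallyOpen f] [UniversallyInjective f] : IsFinite f := by
  haveI : UniversallyClosed f := by
    refine ⟨fun X' Y' i₁ i₂ f' hf => ?_⟩
    have hs : Surjective f' := MorphismProperty.of_isPullback hf.flip (inferInstance : Surjective f)
    have hi : UniversallyInjective f' := MorphismProperty.of_isPullback hf.flip (inferInstance : UniversallyInjective f)
    have ho : UniversallyOpen f' := MorphismProperty.of_isPullback hf.flip (inferInstance : UniversallyOpen f)
    exact ((Equiv.ofBijective _ ⟨f'.injective, f'.surjective⟩).toHomeomorphOfContinuousOpen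
      f'.continuous f'.isOpenMap).isClosedMap
  have hind : Topology.IsInducing f :=
    (Topology.IsOpenEmbedding.of_continuous_injective_isOpenMap f.continuous f.injective f.isOpenMap).isInducing
  haveI : IsAffineHom f := isAffineHom_of_isInducing f hind f.isClosedMap.isClosed_range
  haveI : IsProper f := ⟨⟩
  exact (IsFinite.iff_isProper_and_isAffineHom).mpr ⟨inferInstance, inferInstance⟩

end Groth.Agent.AGStr
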