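import Groth.Agent.AGStr.Basic
import Groth.Agent.GrpSchLib.HomFinite
import Groth.Agent.EtFound.Descent
import Mathlib.AlgebraicGeometry.Limits

/-! A group scheme of finite type over a field with affine identity component is affine. -/

universe u

open CategoryTheory Limits AlgebraicGeometry MonoidalCategory CartesianMonoidalCategory MonObj GrpObj

namespace Groth.Agent.AGStr

open Groth.Agent.GrpSchLib

variable {k : Type u} [Field k]

theorem isAffine_of_neutral_algClosed [IsAlgClosed k] {G G₀ : Over (Spec (CommRingCat.of k))} [GrpObj G]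
    [GrpObj G₀] [LocallyOfFiniteType G.hom] [QuasiCompact G.hom] [QuasiCompact G₀.hom] (i₀ : G₀ ⟶ G)
    [IsMonHom i₀] [IsOpenImmersion i₀.left] [ConnectedSpace G₀.left] [IsAffine G₀.left] : IsAffine G.left := by
  haveI : JacobsonSpace G.left := LocallyOfFiniteType.jacobsonSpace G.hom
  haveI : CompactSpace G.left := (quasiCompact_iff_compactSpace G.hom).mp inferInstance
  let e := η[G].left (IsLocalRing.closedPoint k)
  have he : IsClosed ({e} : Set G.left) := by
    have h1 := (η[G]).left.isClosedEmbedding.isClosedMap _
      (isClosed_discrete (α := ↥(Spec (CommRingCat.of k))) {IsLocalRing.closedPoint k})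
    exact (Set.image_singleton (f := (η[G]).left)) ▸ h1
  haveI : LocallyOfFiniteType G₀.hom := by rw [← Over.w i₀]; infer_instance
  have hr := range_eq_connectedComponent i₀ (IsLocalRing.closedPoint k)
  -- an affine open around every closed point, equal to its component
  have hU : ∀ x : G.left, IsClosed ({x} : Set G.left) →
      ∃ U : G.left.Opens, IsAffineOpen U ∧ (U : Set G.left) = connectedComponent x := by
    intro x hx
    obtain ⟨a, ha⟩ := HomFinite.exists_trans (G := G) e x he hx
    let T : G.left ≅ G.left := (Over.forget _).mapIso (HomFinite.trans a)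
    let f := i₀.left ≫ T.hom
    refine ⟨f.opensRange, isAffineOpen_opensRange f, ?_⟩
    have hT : T.hom e = x := ha
    show Set.range f = _
    rw [Scheme.Hom.comp_base, TopCat.coe_comp, Set.range_comp, hr]
    rw [← hT]
    have h := T.hom.homeomorph.image_connectedComponentIn (s := Set.univ) (Set.mem_univ e)
    simp only [connectedComponentIn_univ, Set.image_univ, EquivLike.range_eq_univ] at h
    exact h
  have hcov : ∀ y : G.left, ∃ x : G.left, IsClosed ({x} : Set G.left) ∧ y ∈ connectedComponent x := by
    intro y
    obtain ⟨x, hxy, hx⟩ := nonempty_inter_closedPoints (Z := connectedComponent y) ⟨y, mem_connectedComponent⟩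
      isClosed_connectedComponent.isLocallyClosed
    exact ⟨x, hx, (connectedComponent_eq hxy) ▸ mem_connectedComponent⟩
  choose U hUa hUc using hU
  let W : {x : G.left // IsClosed ({x} : Set G.left)} → G.left.Opens := fun x => U x.1 x.2
  obtain ⟨F, hF⟩ := isCompact_univ.elim_finite_subcover (fun x => (W x : Set G.left)) (fun x => (W x).2)
    (fun y _ => by
      obtain ⟨x, hx, hy⟩ := hcov y
      exact Set.mem_iUnion.mpr ⟨⟨x, hx⟩, by rw [show (W ⟨x, hx⟩ : Set G.left) = _ from hUc x hx]; exact hy⟩)
  classical
  let C : Set G.left.Opens := (F.image W : Finset _)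
  have hC : ∀ V ∈ C, IsAffineOpen V := by
    intro V hV
    obtain ⟨x, -, rfl⟩ := Finset.mem_image.mp hV
    exact hUa x.1 x.2
  have hd : C.Pairwise (Function.onFun Disjoint id) := by
    intro V hV V' hV' hne
    obtain ⟨x, -, rfl⟩ := Finset.mem_image.mp hV
    obtain ⟨x', -, rfl⟩ := Finset.mem_image.mp hV'
    show Disjoint (W x) (W x')
    rw [disjoint_iff]
    refine TopologicalSpace.Opens.ext (Set.eq_empty_iff_forall_notMem.mpr fun z hz => hne ?_)
    have h1 : z ∈ (W x : Set G.left) := hz.1
    have h2 : z ∈ (W x' : Set G.left) := hz.2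
    rw [show (W x : Set G.left) = _ from hUc x.1 x.2] at h1
    rw [show (W x' : Set G.left) = _ from hUc x'.1 x'.2] at h2
    refine TopologicalSpace.Opens.ext ?_
    show (W x : Set G.left) = W x'
    rw [show (W x : Set G.left) = _ from hUc x.1 x.2, show (W x' : Set G.left) = _ from hUc x'.1 x'.2,
      connectedComponent_eq h1, connectedComponent_eq h2]
  have := IsAffineOpen.biSup_of_disjoint (F.image W).finite_toSet (U := id) hC hd
  have htop : (⨆ V ∈ C, id V) = ⊤ := by
    refine eq_top_iff.mpr fun y _ => ?_
    obtain ⟨x, hx, hy⟩ := Set.mem_iUnion₂.mp (hF (Set.mem_univ y))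
    simp only [TopologicalSpace.Opens.mem_iSup]
    exact ⟨W x, Finset.mem_coe.mpr (Finset.mem_image_of_mem W hx), hy⟩
  rw [htop] at this
  haveI : IsAffine (⊤ : G.left.Opens).toScheme := this
  exact IsAffine.of_isIso G.left.topIso.inv

/-- A group scheme of finite type over a field with affine identity component is affine. -/
theorem isAffine_of_neutral {G G₀ : Over (Spec (CommRingCat.of k))} [GrpObj G]
    [GrpObj G₀] [LocallyOfFiniteType G.hom] [QuasiCompact G.hom] [QuasiCompact G₀.hom] [LocallyOfFiniteType G₀.hom]
    (i₀ : G₀ ⟶ G) [IsMonHom i₀] [IsOpenImmersion i₀.left] [ConnectedSpace G₀.left] [IsAffine G₀.left] :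
    IsAffine G.left := by
  have := EtFound.fpqc_isAffineHom.{u}
  let s := Spec.map (CommRingCat.ofHom (algebraMap k (AlgebraicClosure k)))
  let F := Over.pullback s
  haveI : LocallyOfFiniteType (F.obj G).hom := inferInstanceAs (LocallyOfFiniteType (pullback.snd G.hom s))
  haveI : QuasiCompact (F.obj G).hom := inferInstanceAs (QuasiCompact (pullback.snd G.hom s))
  haveI : QuasiCompact (F.obj G₀).hom := inferInstanceAs (QuasiCompact (pullback.snd G₀.hom s))
  haveI : ConnectedSpace (F.obj G₀).left := connectedSpace_pullback (AlgebraicClosure k) s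
  haveI : IsOpenImmersion (F.map i₀).left :=
    MorphismProperty.overPullbackMap (P := @IsOpenImmersion) _ i₀ ‹_›
  haveI : IsAffineHom G₀.hom := inferInstance
  haveI : IsAffineHom (F.obj G₀).hom := inferInstanceAs (IsAffineHom (pullback.snd G₀.hom s))
  haveI : IsAffine (F.obj G₀).left := isAffine_of_isAffineHom (F.obj G₀).hom
  haveI : IsAffine (F.obj G).left := isAffine_of_neutral_algClosed (F.map i₀)
  have h : IsAffineHom (pullback.snd G.hom s) := inferInstanceAs (IsAffineHom (F.obj G).hom)
  haveI : Surjective s := ⟨fun y => ⟨IsLocalRing.closedPoint _, @Subsingleton.elim (PrimeSpectrum k) inferInstance _ _⟩⟩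
  haveI : Flat s := inferInstance
  haveI : IsAffineHom G.hom := MorphismProperty.of_pullback_snd_of_descendsAlong (P := @IsAffineHom)
    (Q := @Surjective ⊓ @Flat ⊓ @QuasiCompact) (f := G.hom) (g := s) ⟨⟨inferInstance, inferInstance⟩, inferInstance⟩ h
  exact isAffine_of_isAffineHom G.hom

end Groth.Agent.AGStr
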