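import Groth.Agent.GrpSchLib.FixedAffine

/-! An algebraic group acting faithfully on a variety with a fixed rational point is affine
(over an algebraically closed field; faithfulness only on rational points). -/

universe u

open CategoryTheory Limits AlgebraicGeometry MonoidalCategory CartesianMonoidalCategory MonObj GrpObj
open scoped TensorProduct

namespace Groth.Agent.AGStr

open Groth.Agent.GrpSchLib Groth.Agent.GrpSchLib.FixedAffine Kunneth LineGroups

variable {k : Type u} [Field k]

/-- A homomorphism of algebraic groups over an algebraically closed field with only the trivial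
rational point in its kernel is finite. -/
theorem isFinite_of_ker_points [IsAlgClosed k] {G H : Over (Spec (CommRingCat.of k))} [GrpObj G]
    [GrpObj H] [LocallyOfFiniteType G.hom] [LocallyOfFiniteType H.hom] (u : G ⟶ H) [IsMonHom u]
    [QuasiCompact u.left] (hker : ∀ g : 𝟙_ (Over (Spec (CommRingCat.of k))) ⟶ G, g ≫ u = η[H] → g = η[G]) :
    IsFinite u.left := by
  haveI : JacobsonSpace G.left := LocallyOfFiniteType.jacobsonSpace G.hom
  let pt := IsLocalRing.closedPoint k
  let y₀ := η[H].left pt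
  have hy₀ : IsClosed ({y₀} : Set H.left) := by
    have h1 := η[H].left.isClosedEmbedding.isClosedMap _
      (isClosed_discrete (α := ↥(Spec (CommRingCat.of k))) {pt})
    exact (Set.image_singleton (f := (η[H]).left)) ▸ h1
  have hsub : ∀ x : G.left, IsClosed ({x} : Set G.left) → u.left x = y₀ → x = η[G].left pt := by
    intro x hx hxy
    let g : 𝟙_ (Over (Spec (CommRingCat.of k))) ⟶ G :=
      Over.homMk (pointOfClosedPoint G.hom x hx) (pointOfClosedPoint_comp G.hom x hx)
    have hgx : g.left pt = x := pointOfClosedPoint_apply G.hom x hx _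
    have h1 : g ≫ u = η[H] := by
      refine Over.OverMorphism.ext (ext_of_apply_closedPoint_eq H.hom (Over.w (g ≫ u)) (Over.w η[H]) ?_)
      show u.left (g.left pt) = y₀
      rw [hgx, hxy]
    rw [← hgx, hker g h1]
  have hfin : (u.left ⁻¹' {y₀}).Finite := by
    have hcl : IsClosed (u.left ⁻¹' {y₀}) := hy₀.preimage u.left.continuous
    refine (Set.finite_singleton (η[G].left pt)).subset fun x hx => ?_
    have : x ∈ closure (u.left ⁻¹' {y₀} ∩ closedPoints G.left) := by
      rw [closure_inter_closedPoints hcl]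
      exact hx
    have h2 : closure (u.left ⁻¹' {y₀} ∩ closedPoints G.left) ⊆ closure {η[G].left pt} :=
      closure_mono fun z hz => hsub z hz.2 hz.1
    have he : IsClosed ({η[G].left pt} : Set G.left) := by
      have h1 := η[G].left.isClosedEmbedding.isClosedMap _
        (isClosed_discrete (α := ↥(Spec (CommRingCat.of k))) {pt})
      exact (Set.image_singleton (f := (η[G]).left)) ▸ h1
    rw [he.closure_eq] at h2
    exact h2 this
  haveI : LocallyQuasiFinite u.left := HomFinite.locallyQuasiFinite_of_finite_preimage u hfin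
  exact HomFinite.isFinite_of_isAlgClosed u

variable {G X : Over (Spec (CommRingCat.of k))} [GrpObj G] [QuasiCompact G.hom] [LocallyOfFiniteType G.hom]
  [IsSeparated X.hom] [IsIntegral X.left] [IsLocallyNoetherian X.left]
  (a : AlgGrp.Action G X) (x : 𝟙_ (Over (Spec (CommRingCat.of k))) ⟶ X)

theorem isAffine_of_fixed_faithful [IsAlgClosed k] (hx : a.IsFixedPt x)
    (hf : ∀ g : 𝟙_ (Over (Spec (CommRingCat.of k))) ⟶ G, lift (toUnit X ≫ g) (𝟙 X) ≫ a.act = 𝟙 X → g = η[G]) :
    IsAffine G.left := by
  classical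
  haveI := AntiAffine.isSeparated_grp G
  obtain ⟨D⟩ := Adjoint.exists_nbhds' X x
  choose b hb using exists_action a x hx D
  choose d M w hM hfix hconv using fun p : (Σ m, Fn (D.N m)) => ActRep.exists_stable (b p.1) p.2
  obtain ⟨F, hF⟩ := RepFamily.exists_detect (G := G) M
  obtain ⟨N₀, B, hB, hBiff⟩ := RepFamily.exists_block M hM F
  let H : Over (Spec (CommRingCat.of k)) := FrB.GLn N₀ (Spec (CommRingCat.of k))
  haveI : IsAffine (FrB.GLZ.{u} N₀).left := inferInstanceAs (IsAffine (Spec _))
  haveI : IsAffineHom (FrB.GLZ.{u} N₀).hom := inferInstance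
  haveI : IsAffineHom H.hom := inferInstanceAs (IsAffineHom (pullback.snd _ _))
  haveI : IsAffine H.left := isAffine_of_isAffineHom H.hom
  haveI : LocallyOfFiniteType (FrB.GLZ.{u} N₀).hom := by
    refine (HasRingHomProperty.Spec_iff (P := @LocallyOfFiniteType)).mpr ?_
    refine RingHom.finiteType_algebraMap.mpr ?_
    have h : Algebra.FiniteType (ULift.{u} ℤ) (MvPolynomial (CoordGrp.GLPoly.Idx N₀) (ULift.{u} ℤ)) := inferInstance
    exact @Algebra.FiniteType.of_surjective _ _ _ _ _ _ _ _ h (CoordGrp.GLn.mk N₀ (ULift.{u} ℤ))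
      Ideal.Quotient.mk_surjective
  haveI : LocallyOfFiniteType H.hom := inferInstanceAs (LocallyOfFiniteType (pullback.snd _ _))
  haveI : QuasiCompact H.hom := inferInstance
  haveI : IsSeparated H.hom := inferInstance
  let ρ : G ⟶ H := hB.hom
  haveI : IsMonHom ρ := hB.isMonHom_hom
  haveI : QuasiCompact (ρ.left ≫ H.hom) := by rw [Over.w ρ]; infer_instance
  haveI : QuasiCompact ρ.left := QuasiCompact.of_comp ρ.left H.hom
  haveI : IsFinite ρ.left := by
    refine isFinite_of_ker_points ρ fun g hg => hf g ?_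
    have hg2 : g ≫ matPt B hB.isUnit = 1 := hg.trans (by simp [MonObj.one_eq_one])
    rw [comp_matPt] at hg2
    have hall := hF (𝟙_ (Over (Spec (CommRingCat.of k)))) g ((hBiff (𝟙_ (Over (Spec (CommRingCat.of k)))) g).mp (matPt_injective (hN := isUnit_one) (hg2.trans matPt_one.symm)))
    have hact : ∀ m, (g ▷ D.N m) ≫ (b m).act = snd (𝟙_ (Over (Spec (CommRingCat.of k)))) (D.N m) := fun m => by
      refine ext_ev (AlgHom.ext fun f => ?_)
      rw [show g ▷ D.N m = lift (fst (𝟙_ (Over (Spec (CommRingCat.of k)))) (D.N m) ≫ g) (snd (𝟙_ (Over (Spec (CommRingCat.of k)))) (D.N m)) from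
        CartesianMonoidalCategory.hom_ext _ _ (by simp) (by simp)]
      refine hfix ⟨m, f⟩ _ (fst (𝟙_ (Over (Spec (CommRingCat.of k)))) (D.N m) ≫ g) (snd (𝟙_ (Over (Spec (CommRingCat.of k)))) (D.N m)) ?_
      have h3 := congrArg (fun A : Matrix _ _ (Fn (𝟙_ (Over (Spec (CommRingCat.of k))))) => A.map (ev (fst (𝟙_ (Over (Spec (CommRingCat.of k)))) (D.N m)))) (hall ⟨m, f⟩)
      simp only [Matrix.map_map, Matrix.map_one _ (map_zero (ev (fst (𝟙_ (Over (Spec (CommRingCat.of k)))) (D.N m)))) (map_one (ev (fst (𝟙_ (Over (Spec (CommRingCat.of k)))) (D.N m))))] at h3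
      exact h3
    haveI : IsAffine (𝟙_ (Over (Spec (CommRingCat.of k)))).left := inferInstanceAs (IsAffine (Spec _))
    have hU : ((𝟙_ (Over (Spec (CommRingCat.of k)))) ◁ D.uι) ≫ (g ▷ X) ≫ a.act = ((𝟙_ (Over (Spec (CommRingCat.of k)))) ◁ D.uι) ≫ snd (𝟙_ (Over (Spec (CommRingCat.of k)))) X := by
      refine (cancel_epi (β_ D.U (𝟙_ (Over (Spec (CommRingCat.of k))))).hom).mp (InfNbhdEq.eq_of_joint D.j D.dense _ _ fun m => ?_)
      have h1 := congrArg (· ≫ D.j m ≫ D.uι) (hact m)
      simp only [Category.assoc, hb] at h1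
      have e : (D.j m ▷ (𝟙_ (Over (Spec (CommRingCat.of k))))) ≫ (β_ D.U (𝟙_ (Over (Spec (CommRingCat.of k))))).hom = (β_ (D.N m) (𝟙_ (Over (Spec (CommRingCat.of k))))).hom ≫ ((𝟙_ (Over (Spec (CommRingCat.of k)))) ◁ D.j m) :=
        BraidedCategory.braiding_naturality_left _ _
      rw [reassoc_of% e, reassoc_of% e, ← MonoidalCategory.whiskerLeft_comp_assoc,
        ← MonoidalCategory.whiskerLeft_comp_assoc, whisker_exchange_assoc, whiskerLeft_snd, h1]
    haveI : IsSchemeTheoreticallyDominant ((𝟙_ (Over (Spec (CommRingCat.of k)))) ◁ D.uι).left := by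
      haveI : Nonempty D.U.left := ⟨D.u₀.left (IsLocalRing.closedPoint k)⟩
      haveI : IsDominant D.uι.left :=
        ⟨D.uι.left.isOpenEmbedding.isOpen_range.dense (Set.range_nonempty _)⟩
      haveI : IsSchemeTheoreticallyDominant D.uι.left := .of_isDominant _
      haveI : Flat (𝟙_ (Over (Spec (CommRingCat.of k)))).hom := inferInstance
      haveI : Flat (snd (𝟙_ (Over (Spec (CommRingCat.of k)))) X).left := inferInstanceAs (Flat (pullback.snd (𝟙_ (Over (Spec (CommRingCat.of k)))).hom X.hom))
      exact IsSchemeTheoreticallyDominant.of_isPullback (isPullback_whiskerLeft (W := (𝟙_ (Over (Spec (CommRingCat.of k))))) D.uι).flip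
    have hX := eq_of_dominant ((𝟙_ (Over (Spec (CommRingCat.of k)))) ◁ D.uι) _ _ hU
    have h4 := congrArg (lift (toUnit X) (𝟙 X) ≫ ·) hX
    simp only [lift_snd, ← Category.assoc, lift_whiskerRight] at h4
    simpa using h4
  exact isAffine_of_isAffineHom ρ.left

end Groth.Agent.AGStr
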