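import Groth.Prelude.Def_AGF
import Groth.Agent.GrpSchLib.Action
import Mathlib.AlgebraicGeometry.Sites.Fpqc
import Mathlib.AlgebraicGeometry.Morphisms.Flat
import Mathlib.AlgebraicGeometry.Morphisms.UniversallyOpen
import Mathlib.AlgebraicGeometry.Noetherian

/-! Morphisms out of the target of a flat surjective quasi-compact morphism over a field. -/

universe u

open CategoryTheory Limits AlgebraicGeometry MonoidalCategory CartesianMonoidalCategory MonObj GrpObj

namespace Groth.Agent.AGStr

variable {k : Type u} [Field k]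

/-- A morphism from a quasi-compact scheme to a locally noetherian one over a field is quasi-compact. -/
theorem quasiCompact_left {A B : Over (Spec (CommRingCat.of k))} (f : A ⟶ B) [QuasiCompact A.hom]
    [LocallyOfFiniteType B.hom] : QuasiCompact f.left := by
  haveI : IsLocallyNoetherian B.left := LocallyOfFiniteType.isLocallyNoetherian B.hom
  haveI : QuasiSeparated B.hom := (quasiSeparated_iff_quasiSeparatedSpace _).mpr inferInstance
  haveI : QuasiCompact (f.left ≫ B.hom) := by rw [Over.w f]; infer_instance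
  exact QuasiCompact.of_comp f.left B.hom

theorem locallyOfFiniteType_left {A B : Over (Spec (CommRingCat.of k))} (f : A ⟶ B) [LocallyOfFiniteType A.hom] :
    LocallyOfFiniteType f.left := by
  haveI : LocallyOfFiniteType (f.left ≫ B.hom) := by rw [Over.w f]; infer_instance
  exact locallyOfFiniteType_of_comp f.left B.hom

theorem epi_left {A B : Over (Spec (CommRingCat.of k))} (π : A ⟶ B) [Flat π.left] [Surjective π.left]
    [QuasiCompact π.left] : Epi π := Over.epi_of_epi_left _

/-- Descent of morphisms along a flat surjective quasi-compact morphism. -/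
theorem exists_desc {G X Y : Over (Spec (CommRingCat.of k))} (π : G ⟶ X) [Flat π.left] [Surjective π.left]
    [QuasiCompact π.left] (f : G ⟶ Y)
    (h : ∀ (T : Over (Spec (CommRingCat.of k))) (g₁ g₂ : T ⟶ G), g₁ ≫ π = g₂ ≫ π → g₁ ≫ f = g₂ ≫ f) :
    ∃ u : X ⟶ Y, π ≫ u = f := by
  have hdesc : ∀ {Z : Scheme.{u}} (g₁ g₂ : Z ⟶ G.left), g₁ ≫ π.left = g₂ ≫ π.left →
      g₁ ≫ f.left = g₂ ≫ f.left := by
    intro Z g₁ g₂ e
    let T : Over (Spec (CommRingCat.of k)) := Over.mk (g₁ ≫ G.hom)
    let a₁ : T ⟶ G := Over.homMk g₁ rfl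
    let a₂ : T ⟶ G := Over.homMk g₂ (by
      show g₂ ≫ G.hom = g₁ ≫ G.hom
      rw [← Over.w π, ← Category.assoc, ← e, Category.assoc])
    exact congrArg CommaMorphism.left (h T a₁ a₂ (Over.OverMorphism.ext e))
  let l := EffectiveEpi.desc π.left f.left (fun {Z} g₁ g₂ e => hdesc g₁ g₂ e)
  have hl : π.left ≫ l = f.left := EffectiveEpi.fac _ _ _
  refine ⟨Over.homMk l ?_, Over.OverMorphism.ext hl⟩
  rw [← cancel_epi π.left, reassoc_of% hl, Over.w f, Over.w π]

/-- Universal openness cancels surjective morphisms on the left. -/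
theorem universallyOpen_of_comp_surjective {A B C : Scheme.{u}} (f : A ⟶ B) (g : B ⟶ C) [Surjective f]
    [UniversallyOpen (f ≫ g)] : UniversallyOpen g := by
  refine ⟨fun B' C' i₁ i₂ g' hg => ?_⟩
  let f' := pullback.snd f i₁
  have hsq : IsPullback (pullback.fst f i₁) (f' ≫ g') (f ≫ g) i₂ :=
    (IsPullback.of_hasPullback f i₁).paste_vert hg.flip
  haveI : UniversallyOpen (f' ≫ g') :=
    MorphismProperty.of_isPullback hsq (inferInstance : UniversallyOpen (f ≫ g))
  have hopen : IsOpenMap (f' ≫ g') := (f' ≫ g').isOpenMap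
  intro U hU
  haveI : Surjective f' := inferInstanceAs (Surjective (pullback.snd f i₁))
  have := hopen (f' ⁻¹' U) (hU.preimage f'.continuous)
  rwa [Scheme.Hom.comp_base, TopCat.coe_comp, Set.image_comp, Set.image_preimage_eq _ f'.surjective] at this

end Groth.Agent.AGStr
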