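import Groth.Agent.GrpSchLib.IdentityComp
import Groth.Agent.GrpSchLib.AdjointQuot
import Groth.Agent.GrpSchLib.HomClosedRange
import Groth.Agent.AGStr.Descend
import Groth.Agent.GrpSchLib.HomFlat
import Groth.Prelude.Def_AlgGrp
import Mathlib.AlgebraicGeometry.Morphisms.FlatMono

/-! The identity component as an open normal subgroup. -/

set_option linter.style.haveILetI false
set_option backward.isDefEq.respectTransparency false
set_option backward.isDefEq.respectTransparency.types false

universe u

open CategoryTheory CategoryTheory.Limits MonoidalCategory CartesianMonoidalCategory MonObj GrpObj AlgebraicGeometry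

namespace Groth.Agent.AGStr

variable {k : Type u} [Field k]

/-- The identity component of a normal subgroup is normal. -/
theorem isNormalHom_comp_component {G N N₀ : Over (Spec (CommRingCat.of k))} [GrpObj G] [GrpObj N] [GrpObj N₀]
    (j : N ⟶ G) [IsMonHom j] [Mono j] (hn : AlgGrp.IsNormalHom j) (i : N₀ ⟶ N) [IsMonHom i]
    [IsOpenImmersion i.left] [GeometricallyIrreducible N₀.hom]
    (hr : Set.range i.left = connectedComponent (η[N].left (IsLocalRing.closedPoint k))) :
    AlgGrp.IsNormalHom (i ≫ j) := by
  obtain ⟨c, hc⟩ := hn (G ⊗ N₀) (fst G N₀) (snd G N₀ ≫ i)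
  have hrange : Set.range c.left ⊆ Set.range i.left := by
    rintro _ ⟨p, rfl⟩
    let x := (fst G N₀).left p
    haveI : UniversallyOpen N₀.hom := inferInstance
    haveI : UniversallyOpen (fst G N₀).left := inferInstanceAs (UniversallyOpen (pullback.fst G.hom N₀.hom))
    haveI : GeometricallyIrreducible (fst G N₀).left :=
      inferInstanceAs (GeometricallyIrreducible (pullback.fst G.hom N₀.hom))
    have hpre : _root_.IsPreconnected ((fst G N₀).left ⁻¹' {x}) :=
      ((fst G N₀).left.isIrreducible_preimage (fst G N₀).left.isOpenMap isIrreducible_singleton).isConnected.isPreconnected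
    let σ : G ⟶ G ⊗ N₀ := lift (𝟙 G) (toUnit G ≫ η[N₀])
    have hσ : σ.left x ∈ (fst G N₀).left ⁻¹' {x} := by
      show (fst G N₀).left (σ.left x) = x
      rw [← Scheme.Hom.comp_apply, ← Over.comp_left, lift_fst]
      rfl
    have hσc : σ ≫ c = toUnit G ≫ η[N] := by
      rw [← cancel_mono j, Category.assoc, ← hc]
      simp only [MonObj.comp_mul, GrpObj.comp_inv, σ, lift_fst, lift_snd_assoc, Category.assoc]
      rw [IsMonHom.one_hom_assoc i, IsMonHom.one_hom j, show toUnit G ≫ η[G] = (1 : G ⟶ G) from rfl]
      simp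
    have he : c.left (σ.left x) = η[N].left (IsLocalRing.closedPoint k) := by
      rw [← Scheme.Hom.comp_apply, ← Over.comp_left, hσc, Over.comp_left, Scheme.Hom.comp_apply]
      exact congrArg _ (Subsingleton.elim (α := Spec (CommRingCat.of k)) _ _)
    rw [hr, ← he]
    exact (hpre.image _ c.left.continuous.continuousOn).subset_connectedComponent ⟨_, hσ, rfl⟩ ⟨p, rfl, rfl⟩
  let c₀ : G ⊗ N₀ ⟶ N₀ := Over.homMk (IsOpenImmersion.lift i.left c.left hrange) (by
    rw [← Over.w i, ← Category.assoc, IsOpenImmersion.lift_fac]; exact Over.w c)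
  have hc₀ : c₀ ≫ i = c := Over.OverMorphism.ext (IsOpenImmersion.lift_fac _ _ _)
  intro T g n
  refine ⟨lift g n ≫ c₀, ?_⟩
  rw [Category.assoc, ← Category.assoc c₀, hc₀, ← hc]
  simp [MonObj.comp_mul, GrpObj.comp_inv]

/-- The identity component is an open normal subgroup. -/
theorem exists_neutral (G : Over (Spec (CommRingCat.of k))) [GrpObj G] [LocallyOfFiniteType G.hom]
    [QuasiCompact G.hom] :
    ∃ (G₀ : Over (Spec (CommRingCat.of k))) (_ : GrpObj G₀) (i : G₀ ⟶ G), IsMonHom i ∧ IsOpenImmersion i.left ∧
      IsClosedImmersion i.left ∧ LocallyOfFiniteType G₀.hom ∧ QuasiCompact G₀.hom ∧ ConnectedSpace G₀.left ∧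
      GeometricallyIrreducible G₀.hom ∧ AlgGrp.IsNormalHom i ∧ (Smooth G.hom → Smooth G₀.hom) ∧
      Set.range i.left = connectedComponent (η[G].left (IsLocalRing.closedPoint k)) := by
  obtain ⟨G₀, _, i, _, hci, hfl, hr, hgi, hcp⟩ := GrpSchLib.exists_identityComponent (G := G)
  haveI := hci; haveI := hfl; haveI := hgi; haveI := hcp
  haveI : IsLocallyNoetherian G.left := LocallyOfFiniteType.isLocallyNoetherian G.hom
  haveI : LocallyOfFinitePresentation i.left := inferInstance
  haveI hio : IsOpenImmersion i.left := IsOpenImmersion.of_flat_of_mono i.left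
  haveI hlft : LocallyOfFiniteType G₀.hom := by rw [← Over.w i]; infer_instance
  haveI hqc : QuasiCompact G₀.hom := (quasiCompact_iff_compactSpace G₀.hom).mpr inferInstance
  haveI : UniversallyOpen G₀.hom := inferInstance
  haveI hconn : ConnectedSpace G₀.left := by
    haveI : IrreducibleSpace G₀.left := by
      haveI : IrreducibleSpace (Spec (CommRingCat.of k)) := inferInstance
      exact GeometricallyIrreducible.irreducibleSpace G₀.hom G₀.hom.isOpenMap
    infer_instance
  refine ⟨G₀, inferInstance, i, inferInstance, hio, hci, hlft, hqc, hconn, hgi, ?_, fun h => ?_, hr⟩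
  · have h1 : AlgGrp.IsNormalHom (𝟙 G) := fun T g n => ⟨g * n * g⁻¹, by simp⟩
    simpa using isNormalHom_comp_component (𝟙 G) h1 i hr
  · haveI := h
    rw [← Over.w i]
    infer_instance

/-- A homomorphism to a connected group with open range is surjective. -/
theorem surjective_of_isOpen_range {H G : Over (Spec (CommRingCat.of k))} [GrpObj H] [GrpObj G]
    [LocallyOfFiniteType H.hom] [QuasiCompact H.hom] [LocallyOfFiniteType G.hom] [ConnectedSpace G.left]
    (f : H ⟶ G) [IsMonHom f] (ho : IsOpen (Set.range f.left)) : Surjective f.left := by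
  haveI : QuasiCompact f.left := quasiCompact_left f
  have hcl := GrpSchLib.HomClosedRange.isClosed_range f
  have hne : (Set.range f.left).Nonempty := ⟨_, η[H].left (IsLocalRing.closedPoint k), rfl⟩
  exact ⟨Set.range_eq_univ.mp (IsClopen.eq_univ ⟨hcl, ho⟩ hne)⟩

end Groth.Agent.AGStr
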