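import Groth.Agent.AGStr.QuasiRetr
import Groth.Agent.Lib.AVMulN
import Groth.Agent.S11994
import Groth.Agent.GrpSchLib.KernelGrp
import Groth.Agent.GrpSchLib.RedSubgroup
import Groth.Agent.GrpSchLib.PerfectSmooth
import Groth.Agent.GrpSchLib.HomFlat
import Groth.Agent.AGStr.Descend
import Groth.Agent.AGStr.ActDescend

/-! Almost complements of abelian subvarieties of algebraic groups. -/

set_option linter.style.haveILetI false
set_option backward.isDefEq.respectTransparency false
set_option backward.isDefEq.respectTransparency.types false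

universe u

open CategoryTheory CategoryTheory.Limits MonoidalCategory CartesianMonoidalCategory MonObj GrpObj AlgebraicGeometry

namespace Groth.Agent.AGStr.Complement

variable {k : Type u} [Field k] {G A : Over (Spec (CommRingCat.of k))} [GrpObj G] [GrpObj A]
  [LocallyOfFiniteType G.hom] [QuasiCompact G.hom] [Smooth G.hom] [ConnectedSpace G.left]
  (i : A ⟶ G) [IsMonHom i] [IsClosedImmersion i.left] [Smooth A.hom] [ConnectedSpace A.left] [IsProper A.hom]

include i in
/-- A homomorphic retraction up to a positive integer. -/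
theorem exists_retraction : ∃ (r : G ⟶ A) (n : ℕ), 0 < n ∧ IsMonHom r ∧ i ≫ r = (𝟙 A) ^ n := by
  haveI := QuasiRetr.geometricallyIntegral_of_smooth G
  haveI := geometricallyIntegral_of_proper A
  haveI := GrpSchLib.AntiAffine.isSeparated_grp G
  haveI : IsCommMonObj A := isCommMonObj_of_isProper_of_geometricallyIntegral A
  obtain ⟨r₁, n, hn, hr⟩ := QuasiRetr.exists_equivariant G A i
  let r : G ⟶ A := r₁ * (toUnit G ≫ η[G] ≫ r₁)⁻¹
  have hone : η[G] ≫ r = η[A] := by
    show η[G] ≫ (r₁ * (toUnit G ≫ η[G] ≫ r₁)⁻¹) = _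
    rw [MonObj.comp_mul, GrpObj.comp_inv, ← Category.assoc η[G] (toUnit G),
      toUnit_unique (η[G] ≫ toUnit G) (𝟙 _), Category.id_comp, mul_inv_cancel, MonObj.one_eq_one]
  haveI : IsMonHom r := Groth.Agent.S11994.result k G A r hone
  refine ⟨r, n, hn, inferInstance, ?_⟩
  have h := hr A 1 (𝟙 A)
  rw [Category.id_comp, _root_.one_mul] at h
  show i ≫ (r₁ * (toUnit G ≫ η[G] ≫ r₁)⁻¹) = _
  rw [MonObj.comp_mul, GrpObj.comp_inv, h, ← Category.assoc, show i ≫ toUnit G = toUnit A from toUnit_unique _ _,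
    show (1 : A ⟶ G) ≫ r₁ = toUnit A ≫ η[G] ≫ r₁ from Category.assoc _ _ _, mul_inv_cancel_comm]

include i in
/-- An abelian subvariety is central. -/
theorem commute {T : Over (Spec (CommRingCat.of k))} (a : T ⟶ A) (g : T ⟶ G) :
    (a ≫ i) * g = g * (a ≫ i) := by
  haveI := GrpSchLib.AntiAffine.isSeparated_grp G
  haveI := geometricallyIntegral_of_proper A
  let φ : A ⊗ G ⟶ G := (fst A G ≫ i) * snd A G * (fst A G ≫ i)⁻¹ * (snd A G)⁻¹
  have hφ : φ = 1 := by
    refine GrpSchLib.RigidHom.eq_one_of_axes φ η[A] η[G] ?_ ?_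
    · simp only [φ, MonObj.comp_mul, GrpObj.comp_inv, lift_fst_assoc, lift_snd, Category.id_comp]
      rw [show toUnit A ≫ η[G] = (1 : A ⟶ G) from rfl]
      simp
    · simp only [φ, MonObj.comp_mul, GrpObj.comp_inv, lift_fst_assoc, lift_snd, Category.assoc]
      rw [IsMonHom.one_hom i, show toUnit G ≫ η[G] = (1 : G ⟶ G) from rfl]
      simp
  have h := congrArg (lift a g ≫ ·) hφ
  simp only [φ, MonObj.comp_mul, GrpObj.comp_inv, lift_fst_assoc, lift_snd, MonObj.comp_one] at h
  rw [mul_inv_eq_one, mul_inv_eq_iff_eq_mul] at h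
  exact h

omit [LocallyOfFiniteType G.hom] [QuasiCompact G.hom] [Smooth G.hom] [ConnectedSpace G.left]
  [Smooth A.hom] [ConnectedSpace A.left] [IsProper A.hom] [IsClosedImmersion i.left] in
/-- Multiplication of two commuting subgroups is a homomorphism. -/
theorem isMonHom_mulMap {N : Over (Spec (CommRingCat.of k))} [GrpObj N] (j : N ⟶ G) [IsMonHom j]
    (h : ∀ (T : Over (Spec (CommRingCat.of k))) (a : T ⟶ A) (m : T ⟶ N), (a ≫ i) * (m ≫ j) = (m ≫ j) * (a ≫ i)) :
    IsMonHom ((i ⊗ₘ j) ≫ μ[G]) := by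
  have hm : (i ⊗ₘ j) ≫ μ[G] = (fst A N ≫ i) * (snd A N ≫ j) := by
    rw [Hom.mul_def, lift_fst_comp_snd_comp]
  have hmul : ∀ (T : Over (Spec (CommRingCat.of k))) (x y : T ⟶ A ⊗ N),
      (x * y) ≫ ((fst A N ≫ i) * (snd A N ≫ j)) =
        (x ≫ ((fst A N ≫ i) * (snd A N ≫ j))) * (y ≫ ((fst A N ≫ i) * (snd A N ≫ j))) := by
    intro T x y
    simp only [MonObj.comp_mul, ← Category.assoc]
    rw [MonObj.mul_comp x y (fst A N), MonObj.mul_comp x y (snd A N), MonObj.mul_comp _ _ i, MonObj.mul_comp _ _ j]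
    exact Commute.mul_mul_mul_comm (h T _ _) _ _
  rw [hm]
  refine ⟨?_, ?_⟩
  · have h1 := hmul (𝟙_ _) 1 1
    rw [_root_.mul_one] at h1
    have h2 := left_eq_mul.1 h1
    rwa [← MonObj.one_eq_one, ← MonObj.one_eq_one] at h2
  · have h1 := hmul _ (fst (A ⊗ N) (A ⊗ N)) (snd (A ⊗ N) (A ⊗ N))
    rw [show fst (A ⊗ N) (A ⊗ N) * snd (A ⊗ N) (A ⊗ N) = μ[A ⊗ N] by
      rw [Hom.mul_def, lift_fst_snd, Category.id_comp]] at h1
    rw [h1, Hom.mul_def, lift_fst_comp_snd_comp]

variable {r : G ⟶ A} [IsMonHom r] {n : ℕ}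

omit [LocallyOfFiniteType G.hom] [QuasiCompact G.hom] [Smooth G.hom] [ConnectedSpace G.left] [Smooth A.hom]
  [ConnectedSpace A.left] [IsProper A.hom] [IsClosedImmersion i.left] [IsMonHom r] in
theorem comp_retraction (hri : i ≫ r = (𝟙 A) ^ n) {T : Over (Spec (CommRingCat.of k))} (a : T ⟶ A) :
    (a ≫ i) ≫ r = a ^ n := by
  rw [Category.assoc, hri, MonObj.comp_pow, Category.comp_id]

include i in
/-- The multiplication from `A × ker r` is a base change of a power map. -/
theorem isPullback_mul (hri : i ≫ r = (𝟙 A) ^ n) {N : Over (Spec (CommRingCat.of k))} [GrpObj N] (j : N ⟶ G)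
    [IsMonHom j] (hk : AlgGrp.IsKernel j r) :
    IsPullback ((i ⊗ₘ j) ≫ μ[G]) (fst A N) r ((𝟙 A) ^ n) := by
  have hm : (i ⊗ₘ j) ≫ μ[G] = (fst A N ≫ i) * (snd A N ≫ j) := by
    rw [Hom.mul_def, lift_fst_comp_snd_comp]
  have hjr : ∀ {T : Over (Spec (CommRingCat.of k))} (x : T ⟶ N), (x ≫ j) ≫ r = 1 := fun x => by
    rw [Category.assoc, hk.w, ← Category.assoc, comp_toUnit]; rfl
  have hl : ∀ {T : Over (Spec (CommRingCat.of k))} (g : T ⟶ G) (a : T ⟶ A), g ≫ r = a ≫ (𝟙 A) ^ n →
      ((a ≫ i)⁻¹ * g) ≫ r = toUnit T ≫ η[A] := fun {T} g a h => by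
    rw [MonObj.mul_comp, GrpObj.inv_comp, comp_retraction i hri, h, MonObj.comp_pow, Category.comp_id, inv_mul_cancel]
    rfl
  refine IsPullback.of_isLimit' ⟨?_⟩ (PullbackCone.IsLimit.mk _
    (fun s => lift s.snd (hk.lift ((s.snd ≫ i)⁻¹ * s.fst) (toUnit _) (hl _ _ s.condition))) ?_ ?_ ?_)
  · rw [hm, MonObj.mul_comp, comp_retraction i hri, hjr, _root_.mul_one, MonObj.comp_pow, Category.comp_id]
  · intro s
    rw [hm, MonObj.comp_mul, lift_fst_assoc, lift_snd_assoc, hk.lift_fst, mul_inv_cancel_left]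
  · intro s
    exact lift_fst _ _
  · intro s m h1 h2
    apply CartesianMonoidalCategory.hom_ext
    · rw [lift_fst]; exact h2
    · rw [lift_snd]
      refine hk.hom_ext ?_ (toUnit_unique _ _)
      rw [hk.lift_fst, ← h1, ← h2, hm, MonObj.comp_mul, ← Category.assoc m (fst A N), ← Category.assoc m (snd A N),
        inv_mul_cancel_left, Category.assoc]

omit [GrpObj G] [LocallyOfFiniteType G.hom] [QuasiCompact G.hom] [Smooth G.hom] [ConnectedSpace G.left]
  [Smooth A.hom] [ConnectedSpace A.left] [IsProper A.hom] in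
/-- Power maps of commutative groups are homomorphisms. -/
theorem isMonHom_pow [IsCommMonObj A] (n : ℕ) : IsMonHom ((𝟙 A) ^ n : A ⟶ A) := by
  refine { one_hom := ?_, mul_hom := ?_ }
  · rw [MonObj.comp_pow, Category.comp_id, MonObj.one_eq_one, one_pow]
  · rw [MonObj.comp_pow, Category.comp_id]
    have h1 : μ[A] = fst A A * snd A A := by rw [Hom.mul_def, lift_fst_snd, Category.id_comp]
    have h2 : ((𝟙 A) ^ n ⊗ₘ (𝟙 A) ^ n) = lift ((fst A A) ^ n) ((snd A A) ^ n) := by
      apply CartesianMonoidalCategory.hom_ext <;> simp [MonObj.comp_pow]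
    rw [h2, ← Hom.mul_def, h1, mul_pow]

include i in
/-- An almost complement of an abelian subvariety. -/
theorem exists_almostComplement :
    ∃ (N : Over (Spec (CommRingCat.of k))) (_ : GrpObj N) (j : N ⟶ G), IsMonHom j ∧ IsClosedImmersion j.left ∧
      AlgGrp.IsNormalHom j ∧
      (∀ (T : Over (Spec (CommRingCat.of k))) (a : T ⟶ A) (m : T ⟶ N), (a ≫ i) * (m ≫ j) = (m ≫ j) * (a ≫ i)) ∧
      Flat ((i ⊗ₘ j) ≫ μ[G]).left ∧ Surjective ((i ⊗ₘ j) ≫ μ[G]).left ∧
      IsFinite (Limits.pullback.fst i.left j.left ≫ A.hom) ∧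
      (PerfectField k → Smooth N.hom) := by
  haveI := geometricallyIntegral_of_proper A
  haveI : IsCommMonObj A := isCommMonObj_of_isProper_of_geometricallyIntegral A
  obtain ⟨r, n, hn, _, hri⟩ := exists_retraction i
  haveI : Surjective ((𝟙 A) ^ n : A ⟶ A).left := Groth.Agent.AVMulN.surjective_pow n hn
  haveI : IsFinite ((𝟙 A) ^ n : A ⟶ A).left := Groth.Agent.AVMulN.isFinite_pow n hn
  haveI : IsReduced A.left := GrpSchLib.isReduced_of_smooth_field A.hom
  haveI : IsMonHom ((𝟙 A) ^ n : A ⟶ A) := isMonHom_pow n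
  haveI : Flat ((𝟙 A) ^ n : A ⟶ A).left := GrpSchLib.flat_of_surjective_hom _
  obtain ⟨K, _, κ, _, _, hKn, hKk⟩ := GrpSchLib.exists_kernel r
  have hpb := isPullback_mul i hri κ hKk
  have hpbL := hpb.map (Over.forget _)
  have hflat : Flat ((i ⊗ₘ κ) ≫ μ[G]).left := MorphismProperty.of_isPullback hpbL.flip ‹_›
  have hsurj : Surjective ((i ⊗ₘ κ) ≫ μ[G]).left := MorphismProperty.of_isPullback hpbL.flip ‹_›
  -- the intersection with the kernel is killed by `n`
  have hfin : ∀ {M : Over (Spec (CommRingCat.of k))} (j : M ⟶ G) [IsClosedImmersion j.left],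
      j ≫ r = toUnit M ≫ η[A] → IsFinite (Limits.pullback.fst i.left j.left ≫ A.hom) := by
    intro M j _ hj
    let p := Limits.pullback.fst i.left j.left
    let P : Over (Spec (CommRingCat.of k)) := Over.mk (p ≫ A.hom)
    let a : P ⟶ A := Over.homMk p rfl
    let b : P ⟶ M := Over.homMk (Limits.pullback.snd i.left j.left) (by
      show _ ≫ M.hom = p ≫ A.hom
      rw [← Over.w j, ← Limits.pullback.condition_assoc, Over.w i])
    have hab : a ≫ i = b ≫ j := Over.OverMorphism.ext Limits.pullback.condition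
    have ha : a ≫ (𝟙 A) ^ n = toUnit P ≫ η[A] := by
      rw [MonObj.comp_pow, Category.comp_id, ← comp_retraction i hri, hab, Category.assoc, hj, ← Category.assoc,
        comp_toUnit]
    haveI : IsFinite a.left := inferInstanceAs (IsFinite (Limits.pullback.fst i.left j.left))
    haveI : IsFinite (a.left ≫ ((𝟙 A) ^ n : A ⟶ A).left) := inferInstance
    have h2 : IsFinite ((toUnit P).left ≫ η[A].left) := by
      rw [← Over.comp_left, ← ha, Over.comp_left]; infer_instance
    haveI : IsSeparated η[A].left := by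
      haveI : IsSeparated (η[A].left ≫ A.hom) := by rw [Over.w η[A]]; exact inferInstanceAs (IsSeparated (𝟙 _))
      exact IsSeparated.of_comp η[A].left A.hom
    have h3 : IsFinite (toUnit P).left := MorphismProperty.of_postcomp (W := @IsFinite) (W' := @IsSeparated)
      (toUnit P).left η[A].left ‹IsSeparated η[A].left› h2
    exact h3
  by_cases hk : PerfectField k
  · haveI : LocallyOfFiniteType K.hom := by rw [← Over.w κ]; infer_instance
    haveI : QuasiCompact K.hom := by rw [← Over.w κ]; infer_instance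
    obtain ⟨N, _, ρ, _, _, _, _, _, _⟩ := Groth.Agent.GrpSchLib.RedSubgroup.exists_redSubgroup K
    haveI : IsClosedImmersion (ρ ≫ κ).left := by rw [Over.comp_left]; infer_instance
    haveI : IsMonHom (ρ ≫ κ) := inferInstance
    haveI : Smooth N.hom := GrpSchLib.smooth_of_perfectField_of_isReduced N
    haveI : Mono (ρ ≫ κ) := (Over.forget _).mono_of_mono_map (inferInstanceAs (Mono (ρ ≫ κ).left))
    refine ⟨N, inferInstance, ρ ≫ κ, inferInstance, inferInstance, ?_, fun T a m => commute i _ _, ?_, ?_, ?_,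
      fun _ => inferInstance⟩
    · -- normality
      haveI : Smooth (G ⊗ N).hom := inferInstanceAs (Smooth (Limits.pullback.fst G.hom N.hom ≫ G.hom))
      haveI : IsReduced (G ⊗ N).left := GrpSchLib.isReduced_of_smooth_field (G ⊗ N).hom
      obtain ⟨c, hc⟩ := hKn (G ⊗ N) (fst G N) (snd G N ≫ ρ)
      obtain ⟨c', hc'⟩ := H23.RedSub.exists_lift c.left ρ.left (by
        rintro _ ⟨x, rfl⟩
        exact ρ.left.surjective _)
      let cN : G ⊗ N ⟶ N := Over.homMk c' (by rw [← Over.w ρ, ← Category.assoc, hc']; exact Over.w c)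
      have hcN : cN ≫ ρ = c := Over.OverMorphism.ext hc'
      intro T g m
      refine ⟨lift g m ≫ cN, ?_⟩
      have h := congrArg (lift g m ≫ ·) hc
      simp only [MonObj.comp_mul, GrpObj.comp_inv, Category.assoc, lift_fst, lift_snd_assoc] at h
      rw [h, Category.assoc, ← Category.assoc cN, hcN]
    · -- flatness
      haveI : Surjective ((i ⊗ₘ (ρ ≫ κ)) ≫ μ[G]).left := by
        have e : (i ⊗ₘ (ρ ≫ κ)) ≫ μ[G] = (A ◁ ρ) ≫ (i ⊗ₘ κ) ≫ μ[G] := by
          rw [← Category.assoc, whiskerLeft_comp_tensorHom]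
        haveI : Surjective (A ◁ ρ).left :=
          MorphismProperty.of_isPullback (GrpSchLib.isPullback_whiskerLeft (W := A) ρ).flip ‹Surjective ρ.left›
        haveI := hsurj
        rw [e, Over.comp_left]
        infer_instance
      haveI : IsMonHom ((i ⊗ₘ (ρ ≫ κ)) ≫ μ[G]) := isMonHom_mulMap i (ρ ≫ κ) fun T x y => commute i x _
      haveI : IsReduced G.left := GrpSchLib.isReduced_of_smooth_field G.hom
      haveI : LocallyOfFiniteType (A ⊗ N).hom :=
        inferInstanceAs (LocallyOfFiniteType (Limits.pullback.fst A.hom N.hom ≫ A.hom))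
      haveI : QuasiCompact ((i ⊗ₘ (ρ ≫ κ)) ≫ μ[G]).left := by
        haveI : QuasiCompact (A ⊗ N).hom := inferInstanceAs (QuasiCompact (Limits.pullback.fst A.hom N.hom ≫ A.hom))
        exact quasiCompact_left _
      exact GrpSchLib.flat_of_surjective_hom _
    · have e : (i ⊗ₘ (ρ ≫ κ)) ≫ μ[G] = (A ◁ ρ) ≫ (i ⊗ₘ κ) ≫ μ[G] := by
        rw [← Category.assoc, whiskerLeft_comp_tensorHom]
      haveI : Surjective (A ◁ ρ).left :=
        MorphismProperty.of_isPullback (GrpSchLib.isPullback_whiskerLeft (W := A) ρ).flip ‹Surjective ρ.left›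
      haveI := hsurj
      rw [e, Over.comp_left]
      infer_instance
    · exact hfin _ (by rw [Category.assoc, hKk.w, ← Category.assoc, comp_toUnit])
  · exact ⟨K, inferInstance, κ, inferInstance, inferInstance, hKn, fun T a m => commute i _ _, hflat, hsurj,
      hfin κ hKk.w, fun h => absurd h hk⟩

end Groth.Agent.AGStr.Complement
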