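import Groth.Agent.AGStr.QuotSpace
import Groth.Agent.SrcDescent.SchemeFppf
import Groth.Agent.GrpSchLib.SmoothQuot
import Groth.Agent.FpqcDescLib.Group
import Groth.Prelude.Def_AlgGrp
import Groth.Prelude.Def_RedSub

/-!
# Quotients of algebraic groups over an algebraically closed field

The fppf quotient `G/H` is a separated algebraic space; it contains a nonempty open subscheme, and the translates of
this subscheme by rational points cover it, so it is a scheme.
-/

set_option backward.isDefEq.respectTransparency false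
set_option backward.isDefEq.respectTransparency.types false
set_option linter.style.haveILetI false

universe u

open CategoryTheory Limits MonoidalCategory CartesianMonoidalCategory MonObj GrpObj AlgebraicGeometry AlgSp
open Groth.Agent.AlgSpLib

namespace Groth.Agent.AGStr.QuotAlgClosed

section Rel

variable {S : Scheme.{u}} {G H : Over S} [GrpObj G] [GrpObj H] (u : H ⟶ G) [IsMonHom u]

/-- The first map of the coset relation. -/
noncomputable abbrev rt : G ⊗ H ⟶ G := (G ◁ u) ≫ μ[G]

/-- The second map of the coset relation. -/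
noncomputable abbrev rs : G ⊗ H ⟶ G := fst G H

omit [IsMonHom u] [GrpObj H] in
theorem lift_rt {T : Over S} (a : T ⟶ G) (h : T ⟶ H) : lift a h ≫ rt u = a * (h ≫ u) := by
  rw [rt, lift_whiskerLeft_assoc, Hom.mul_def]

theorem isEqvRel [Mono u] : IsEqvRel (rs (G := G) (H := H)) (rt u) where
  injective T r r' h1 h2 := by
    obtain ⟨a, h, rfl⟩ : ∃ a h, r = lift a h := ⟨r ≫ fst G H, r ≫ snd G H, by rw [← comp_lift, lift_fst_snd, Category.comp_id]⟩
    obtain ⟨a', h', rfl⟩ : ∃ a h, r' = lift a h := ⟨r' ≫ fst G H, r' ≫ snd G H, by rw [← comp_lift, lift_fst_snd, Category.comp_id]⟩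
    simp only [lift_fst] at h2
    subst h2
    rw [lift_rt, lift_rt] at h1
    rw [(cancel_mono u).1 (mul_left_cancel h1)]
  equivalence T := by
    refine ⟨fun a => ⟨lift a 1, ?_, lift_fst _ _⟩, ?_, ?_⟩
    · rw [lift_rt, MonObj.one_comp, _root_.mul_one]
    · rintro a b ⟨r, rfl, rfl⟩
      refine ⟨lift (r ≫ rt u) (r ≫ snd G H)⁻¹, ?_, lift_fst _ _⟩
      rw [lift_rt, GrpObj.inv_comp]
      have hr : r ≫ rt u = (r ≫ rs) * ((r ≫ snd G H) ≫ u) := by
        rw [← lift_rt u, ← comp_lift, lift_fst_snd, Category.comp_id]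
      rw [hr, mul_inv_cancel_right]
    · rintro a b c ⟨r, rfl, rfl⟩ ⟨r', h', rfl⟩
      refine ⟨lift (r' ≫ rs) ((r' ≫ snd G H) * (r ≫ snd G H)), ?_, lift_fst _ _⟩
      have hr : ∀ r : T ⟶ G ⊗ H, r ≫ rt u = (r ≫ rs) * ((r ≫ snd G H) ≫ u) := fun r => by
        rw [← lift_rt u, ← comp_lift, lift_fst_snd, Category.comp_id]
      rw [lift_rt, MonObj.mul_comp, ← _root_.mul_assoc, ← hr r', h', ← hr r]

/-- The shear of the coset relation. -/
noncomputable def shear : G ⊗ H ≅ G ⊗ H where
  hom := lift (rt u) (snd G H)⁻¹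
  inv := lift (rt u) (snd G H)⁻¹
  hom_inv_id := by
    apply CartesianMonoidalCategory.hom_ext
    · rw [Category.assoc, lift_fst, lift_rt, GrpObj.inv_comp, Category.id_comp]
      have : rt u = fst G H * (snd G H ≫ u) := by
        rw [← lift_rt u, lift_fst_snd, Category.id_comp]
      rw [this, mul_inv_cancel_right]
    · rw [Category.assoc, lift_snd, GrpObj.comp_inv, lift_snd, _root_.inv_inv, Category.id_comp]
  inv_hom_id := by
    apply CartesianMonoidalCategory.hom_ext
    · rw [Category.assoc, lift_fst, lift_rt, GrpObj.inv_comp, Category.id_comp]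
      have : rt u = fst G H * (snd G H ≫ u) := by
        rw [← lift_rt u, lift_fst_snd, Category.id_comp]
      rw [this, mul_inv_cancel_right]
    · rw [Category.assoc, lift_snd, GrpObj.comp_inv, lift_snd, _root_.inv_inv, Category.id_comp]

theorem shear_fst : (shear u).hom ≫ rs = rt u := lift_fst _ _

theorem isPullback_prod [Mono u] :
    IsPullback (snd G H) (prod.lift (rt u) rs) u ((prod.snd : G ⨯ G ⟶ G)⁻¹ * prod.fst) := by
  refine IsPullback.of_isLimit' ⟨?_⟩ (PullbackCone.IsLimit.mk _
    (fun c => lift (c.snd ≫ prod.snd) c.fst) (fun c => lift_snd _ _) ?_ ?_)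
  · rw [MonObj.comp_mul, GrpObj.comp_inv, prod.lift_fst, prod.lift_snd,
      show rt u = fst G H * (snd G H ≫ u) by rw [← lift_rt u, lift_fst_snd, Category.id_comp],
      inv_mul_cancel_left]
  · intro c
    apply Limits.prod.hom_ext
    · rw [Category.assoc, prod.lift_fst, lift_rt, c.condition, MonObj.comp_mul, GrpObj.comp_inv,
        mul_inv_cancel_left]
    · rw [Category.assoc, prod.lift_snd, lift_fst]
  · intro c m h1 h2
    apply CartesianMonoidalCategory.hom_ext
    · rw [lift_fst, ← h2, Category.assoc, prod.lift_snd]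
    · rw [lift_snd]; exact h1

end Rel

variable {k : Type u} [Field k] [IsAlgClosed k]

/-- Separatedness of spaces is invariant under isomorphisms. -/
theorem isSeparatedSp_of_iso' {S : Scheme.{u}} {F F' : Sp S} (e : F ≅ F') (h : IsSeparatedSp F) : IsSeparatedSp F' := by
  have hd : Limits.diag F' = e.inv ≫ Limits.diag F ≫ (prod.mapIso e e).hom := by
    apply Limits.prod.hom_ext <;> simp
  unfold IsSeparatedSp at h ⊢
  rw [hd]
  exact repWith_comp (repWith_of_isIso _ _) (repWith_comp h (repWith_of_isIso _ _))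

/-- Nonempty open subschemes contain rational points. -/
theorem exists_point {V : Over (Spec (CommRingCat.of k))} [LocallyOfFiniteType V.hom] [Nonempty V.left] :
    Nonempty (𝟙_ (Over (Spec (CommRingCat.of k))) ⟶ V) := by
  haveI : JacobsonSpace V.left := LocallyOfFiniteType.jacobsonSpace V.hom
  obtain ⟨c, -, hc⟩ := nonempty_inter_closedPoints (Z := (Set.univ : Set V.left)) Set.univ_nonempty
    isClosed_univ.isLocallyClosed
  let s := (pointEquivClosedPoint V.hom).symm ⟨c, hc⟩
  exact ⟨Over.homMk s.1 s.2⟩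

/-- The quotient of an algebraic group by a closed subgroup exists over an algebraically closed field. -/
theorem exists_quot (G H : Over (Spec (CommRingCat.of k))) [GrpObj G] [GrpObj H]
    [LocallyOfFiniteType G.hom] [QuasiCompact G.hom] (u : H ⟶ G) [IsMonHom u] [IsClosedImmersion u.left] :
    ∃ (Q : Over (Spec (CommRingCat.of k))) (q : G ⟶ Q), RedSub.IsQuotient u q ∧
      IsSeparated Q.hom ∧ LocallyOfFiniteType Q.hom ∧ QuasiCompact Q.hom := by
  let S := Spec (CommRingCat.of k)
  haveI : Mono u := (Over.forget _).mono_of_mono_map (inferInstanceAs (Mono u.left))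
  haveI : LocallyOfFiniteType H.hom := by rw [← Over.w u]; infer_instance
  haveI : LocallyOfFinitePresentation H.hom := inferInstance
  haveI : Flat (rs (G := G) (H := H)).left := MorphismProperty.pullback_fst G.hom H.hom inferInstance
  haveI : LocallyOfFinitePresentation (rs (G := G) (H := H)).left :=
    MorphismProperty.pullback_fst G.hom H.hom inferInstance
  haveI : Surjective (rs (G := G) (H := H)).left :=
    MorphismProperty.pullback_fst G.hom H.hom
      ⟨fun x => ⟨η[H].left (IsLocalRing.closedPoint k), Subsingleton.elim _ _⟩⟩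
  haveI : IsIso (shear u).hom.left := inferInstanceAs (IsIso ((Over.forget _).map (shear u).hom))
  have hst : (rt u).left = (shear u).hom.left ≫ (rs (G := G) (H := H)).left := by
    rw [← Over.comp_left, shear_fst]
  haveI : Flat (rt u).left := by rw [hst]; infer_instance
  haveI : LocallyOfFinitePresentation (rt u).left := by rw [hst]; infer_instance
  have hrel := isEqvRel u
  let p := AlgSpPts.quotMap (rs (G := G) (H := H)) (rt u)
  have sq := AlgSpPts.isPullback_quotMap hrel
  haveI : Sheaf.IsLocallySurjective p := AlgSpDec.isLocallySurjective_quotMap _ _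
  have hA := AlgSpDec.isAlgSpace_of_flat_kernelPair sq
  have hr : Representable p := hA.representable_from_yon p
  have := AlgSpPts.isLocalAtTarget_fppf (@Flat : MorphismProperty Scheme.{u})
  have := AlgSpPts.isLocalAtTarget_fppf (@LocallyOfFinitePresentation : MorphismProperty Scheme.{u})
  have := AlgSpPts.isLocalAtTarget_fppf (@Surjective : MorphismProperty Scheme.{u})
  have := AlgSpPts.isLocalAtTarget_fppf (@IsClosedImmersion : MorphismProperty Scheme.{u})
  have hpf : RepWith @Flat p :=
    AlgSpPts.repWith_of_locallySurjective hr p sq @Flat ((repWith_yon_map_iff _ _).2 inferInstance)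
  have hpl : RepWith @LocallyOfFinitePresentation p :=
    AlgSpPts.repWith_of_locallySurjective hr p sq @LocallyOfFinitePresentation
      ((repWith_yon_map_iff _ _).2 inferInstance)
  have hps : RepWith @Surjective p :=
    AlgSpPts.repWith_of_locallySurjective hr p sq @Surjective ((repWith_yon_map_iff _ _).2 inferInstance)
  have hp : RepWith Groth.Agent.AlgSpLib.fppf p := (repWith_inf_iff _).2 ⟨(repWith_inf_iff _).2 ⟨hps, hpf⟩, hpl⟩
  have hci : IsClosedImmersion (prod.lift (rt u) (rs (G := G) (H := H))).left :=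
    MorphismProperty.of_isPullback ((isPullback_prod u).map (Over.forget _)) ‹IsClosedImmersion u.left›
  have hsep : IsSeparatedSp _ := QuotSpace.repWith_diag_of_fppf @IsClosedImmersion hA.diag p hp _ _ sq hci
  have hle : (@IsClosedImmersion : MorphismProperty Scheme.{u}) ≤ @QuasiCompact := fun _ _ f hf => by
    haveI := hf; infer_instance
  have hqs : IsQuasiSeparatedSp (QuotSh.quot Scheme.fppfPrecoverage (rs (G := G) (H := H)) (rt u)) :=
    repWith_mono hle _ hsep
  -- an open subscheme
  obtain ⟨U₀, a₀, ha₀, ha₀s⟩ := hA.atlas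
  let g₁ : G.left := η[G].left (IsLocalRing.closedPoint k)
  obtain ⟨w₁, -⟩ := QuotSpace.exists_ofPt_chart a₀ ha₀s (Points.ofPt p g₁)
  obtain ⟨u₀, -, hu₀⟩ := AlgSpDec.exists_codimZero_mem (⊤ : U₀.left.Opens) ⟨w₁, trivial⟩
  obtain ⟨T, j, hj, z₀, hz₀⟩ := AlgSpDec.exists_open_subscheme_of_codimZero_qs hA hqs ha₀ u₀ hu₀
  -- its preimage in `G`
  let V := hj.rep.pullback p
  let iV : V ⟶ G := hj.rep.snd p
  let τ : V ⟶ T := hj.rep.fst' p
  haveI : IsOpenImmersion iV.left := hj.property_snd p
  have hw : (yon S).map τ ≫ j = (yon S).map iV ≫ p := by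
    rw [Functor.relativelyRepresentable.map_fst', hj.rep.w]
  haveI : Surjective τ.left := by
    haveI := hps.rep
    exact hps.property j ((yon S).map iV) τ (hj.rep.isPullback' p).flip
  haveI : Nonempty T.left := ⟨(Points.toScheme T z₀)⟩
  haveI : Nonempty V.left := by
    obtain ⟨v, -⟩ := τ.left.surjective (Classical.arbitrary T.left)
    exact ⟨v⟩
  haveI : LocallyOfFiniteType V.hom := by rw [← Over.w iV]; infer_instance
  obtain ⟨v₀⟩ := exists_point (V := V)
  -- translations
  let Pt := 𝟙_ (Over S) ⟶ G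
  let c : Pt → Pt := fun g => g * (v₀ ≫ iV)⁻¹
  let l : Pt → (G ⟶ G) := fun g => (toUnit G ≫ c g) * 𝟙 G
  let l' : Pt → (G ⟶ G) := fun g => (toUnit G ≫ (c g)⁻¹) * 𝟙 G
  have hl : ∀ (g : Pt) {X : Over S} (a : X ⟶ G), a ≫ l g = (toUnit X ≫ c g) * a := fun g X a => by
    rw [MonObj.comp_mul, Category.comp_id, ← Category.assoc, comp_toUnit]
  have hl' : ∀ (g : Pt) {X : Over S} (a : X ⟶ G), a ≫ l' g = (toUnit X ≫ (c g)⁻¹) * a := fun g X a => by
    rw [MonObj.comp_mul, Category.comp_id, ← Category.assoc, comp_toUnit]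
  have hll' : ∀ g, l g ≫ l' g = 𝟙 G := fun g => by
    rw [hl']
    show (toUnit G ≫ (c g)⁻¹) * ((toUnit G ≫ c g) * 𝟙 G) = 𝟙 G
    rw [GrpObj.comp_inv, inv_mul_cancel_left]
  have hl'l : ∀ g, l' g ≫ l g = 𝟙 G := fun g => by
    rw [hl]
    show (toUnit G ≫ c g) * ((toUnit G ≫ (c g)⁻¹) * 𝟙 G) = 𝟙 G
    rw [GrpObj.comp_inv, mul_inv_cancel_left]
  have key : ∀ (d : Pt), (rt u) ≫ ((toUnit G ≫ d) * 𝟙 G) =
      lift (fst G H ≫ ((toUnit G ≫ d) * 𝟙 G)) (snd G H) ≫ rt u := fun d => by
    rw [lift_rt, MonObj.comp_mul, MonObj.comp_mul, Category.comp_id, Category.comp_id, ← Category.assoc, comp_toUnit,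
      ← Category.assoc, comp_toUnit,
      show rt u = fst G H * (snd G H ≫ u) by rw [← lift_rt u, lift_fst_snd, Category.id_comp], _root_.mul_assoc]
  have hd : ∀ d : Pt, ∃ f, p ≫ f = (yon S).map ((toUnit G ≫ d) * 𝟙 G) ≫ p := fun d => by
    refine AlgSpDec.exists_desc_of_kernelPair sq _ ?_
    rw [← Functor.map_comp_assoc, ← Functor.map_comp_assoc, key, Functor.map_comp, Category.assoc, sq.w,
      ← Functor.map_comp_assoc, lift_fst]
  choose φ hφ using hd
  haveI : Epi p := (Sheaf.isLocallySurjective_iff_epi p).1 inferInstance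
  have hiso : ∀ g, IsIso (φ (c g)) := fun g => ⟨φ (c g)⁻¹, by
    rw [← cancel_epi p, reassoc_of% hφ, hφ, ← Functor.map_comp_assoc]
    change (yon S).map (l g ≫ l' g) ≫ p = _
    rw [hll', CategoryTheory.Functor.map_id, Category.id_comp, Category.comp_id], by
    rw [← cancel_epi p, reassoc_of% hφ, hφ, ← Functor.map_comp_assoc]
    change (yon S).map (l' g ≫ l g) ≫ p = _
    rw [hl'l, CategoryTheory.Functor.map_id, Category.id_comp, Category.comp_id]⟩
  let jj : Pt → ((yon S).obj T ⟶ QuotSh.quot Scheme.fppfPrecoverage (rs (G := G) (H := H)) (rt u)) :=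
    fun g => j ≫ φ (c g)
  have hjj : ∀ g, RepWith @IsOpenImmersion (jj g) := fun g => by
    haveI := hiso g
    exact repWith_comp hj (repWith_of_isIso _ _)
  haveI : JacobsonSpace G.left := LocallyOfFiniteType.jacobsonSpace G.hom
  have hcov : ∀ x, ∃ g v, Points.ofPt (jj g) v = x := fun x => by
    obtain ⟨y, rfl⟩ := QuotSpace.exists_ofPt_chart p hps x
    obtain ⟨z, hz1, hz⟩ := nonempty_inter_closedPoints (Z := closure {y})
      ⟨y, subset_closure rfl⟩ isClosed_closure.isLocallyClosed
    let s := (pointEquivClosedPoint G.hom).symm ⟨z, hz⟩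
    let g : Pt := Over.homMk s.1 s.2
    have hg : g.left (IsLocalRing.closedPoint k) = z :=
      congrArg Subtype.val ((pointEquivClosedPoint G.hom).apply_symm_apply ⟨z, hz⟩)
    haveI : IsOpenImmersion (iV ≫ l g).left := by
      haveI : IsIso (l g) := ⟨l' g, hll' g, hl'l g⟩
      haveI : IsIso (l g).left := inferInstanceAs (IsIso ((Over.forget _).map (l g)))
      rw [Over.comp_left]; infer_instance
    have hmem : z ∈ Set.range (iV ≫ l g).left := by
      refine ⟨v₀.left (IsLocalRing.closedPoint k), ?_⟩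
      rw [← Scheme.Hom.comp_apply, ← Over.comp_left, ← Category.assoc, hl]
      rw [toUnit_unique (toUnit _) (𝟙 _), Category.id_comp, inv_mul_cancel_right, hg]
    have hy : y ∈ Set.range (iV ≫ l g).left :=
      (specializes_iff_mem_closure.2 hz1).mem_open (iV ≫ l g).left.isOpenEmbedding.isOpen_range hmem
    obtain ⟨v, rfl⟩ := hy
    refine ⟨g, τ.left v, ?_⟩
    rw [← ofPt_comp, ← ofPt_comp, Functor.map_comp, Category.assoc, ← hφ]
    show Points.ofPt ((yon S).map τ ≫ j ≫ φ (c g)) v = _
    rw [reassoc_of% hw]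
  obtain ⟨Q, ⟨e⟩, -⟩ := AlgSpDec.exists_iso_of_open_cover (fun _ : Pt => T) jj hjj hcov
  obtain ⟨q, hq⟩ := (yon S).map_surjective (p ≫ e.inv)
  have hP : ∀ (P : MorphismProperty Scheme.{u}) [P.IsStableUnderBaseChange],
      RepWith P p → P q.left := fun P _ h => by
    rw [← repWith_yon_map_iff P q, hq]
    have : (RepWith (S := S) P).RespectsIso := MorphismProperty.IsStableUnderBaseChange.respectsIso
    exact MorphismProperty.RespectsIso.postcomp _ e.inv p h
  haveI hqs' : Surjective q.left := hP @Surjective hps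
  haveI hqf : Flat q.left := hP @Flat hpf
  haveI hql : LocallyOfFinitePresentation q.left := hP @LocallyOfFinitePresentation hpl
  haveI : LocallyOfFiniteType Q.hom := by
    haveI : LocallyOfFiniteType (q.left ≫ Q.hom) := by rw [Over.w]; infer_instance
    exact SrcDescent.locallyOfFiniteType_of_fppf_comp q.left Q.hom
  haveI : QuasiCompact Q.hom := by
    haveI : CompactSpace G.left := (quasiCompact_iff_compactSpace G.hom).mp inferInstance
    haveI : CompactSpace Q.left := q.left.surjective.compactSpace q.left.continuous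
    exact (quasiCompact_iff_compactSpace Q.hom).mpr inferInstance
  refine ⟨Q, q, ⟨hqs', hqf, hql, ?_⟩, ?_, inferInstance, inferInstance⟩
  · refine IsPullback.of_map (yon S) ?_ ?_
    · exact (yon S).map_injective (by
        rw [Functor.map_comp, Functor.map_comp, hq, sq.flip.w_assoc])
    · rw [hq]
      exact sq.flip.of_iso (Iso.refl _) (Iso.refl _) (Iso.refl _) e.symm (by rw [Iso.refl_hom, Iso.refl_hom, Category.comp_id, Category.id_comp]) (by rw [Iso.refl_hom, Iso.refl_hom, Category.comp_id, Category.id_comp])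
        (by simp [p]) (by simp [p])
  · have h : RepWith @IsClosedImmersion (Limits.diag ((yon S).obj Q)) :=
      isSeparatedSp_of_iso' e.symm hsep
    exact ⟨(repWith_diag_yon_iff _ Q).1 h⟩

/-- The quotient of an algebraic group by a normal closed subgroup is an algebraic group. -/
theorem exists_quotGrp (G H : Over (Spec (CommRingCat.of k))) [GrpObj G] [GrpObj H]
    [LocallyOfFiniteType G.hom] [QuasiCompact G.hom] (u : H ⟶ G) [IsMonHom u] [IsClosedImmersion u.left]
    (hn : AlgGrp.IsNormalHom u) :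
    ∃ (Q : Over (Spec (CommRingCat.of k))) (_ : GrpObj Q) (q : G ⟶ Q), IsMonHom q ∧ RedSub.IsQuotient u q ∧
      AlgGrp.IsKernel u q ∧ IsSeparated Q.hom ∧ LocallyOfFiniteType Q.hom ∧ QuasiCompact Q.hom ∧
      (Smooth G.hom → Smooth Q.hom) ∧ (ConnectedSpace G.left → ConnectedSpace Q.left) := by
  obtain ⟨Q, q, hq, hsep, hft, hqc⟩ := exists_quot G H u
  have hq' := hq
  obtain ⟨hs, hf, hl, hpb⟩ := hq'
  haveI := hs; haveI := hf; haveI := hl; haveI := hsep; haveI := hft; haveI := hqc
  have hp : FpqcDescLib.Covers q.left :=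
    FpqcDescLib.covers_of_isCovering (FpqcDescLib.isCovering_of_lfp q.left)
  have hc : FpqcDescLib.IsCosetMap u q := FpqcDescLib.isCosetMap_of_isPullback hpb
  obtain ⟨sQ, hqm⟩ := FpqcDescLib.exists_grpObj hp hc hn
  letI := sQ
  haveI := hqm
  haveI : Mono u := (Over.forget _).mono_of_mono_map (inferInstanceAs (Mono u.left))
  have hker : AlgGrp.IsKernel u q := by
    have hw : ∀ {T : Over (Spec (CommRingCat.of k))} (x : T ⟶ G),
        x ≫ q = toUnit T ≫ η[Q] ↔ ∃ h : T ⟶ H, h ≫ u = x := fun {T} x => by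
      rw [show toUnit T ≫ η[Q] = (1 : T ⟶ G) ≫ q by rw [MonObj.one_comp]; rfl, eq_comm, hc T]
      simp only [_root_.one_mul, eq_comm]
    refine IsPullback.of_isLimit' ⟨(hw u).2 ⟨𝟙 H, Category.id_comp u⟩⟩ (PullbackCone.IsLimit.mk _
      (fun s => ((hw s.fst).1 (by rw [s.condition]; congr 1; exact toUnit_unique _ _)).choose) ?_ ?_ ?_)
    · intro s
      exact ((hw s.fst).1 (by rw [s.condition]; congr 1; exact toUnit_unique _ _)).choose_spec
    · intro s
      exact toUnit_unique _ _
    · intro s m h1 _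
      rw [← cancel_mono u, h1]
      exact ((hw s.fst).1 (by rw [s.condition]; congr 1; exact toUnit_unique _ _)).choose_spec.symm
  refine ⟨Q, sQ, q, hqm, hq, hker, hsep, hft, hqc, fun h => ?_, fun h => ?_⟩
  · haveI : Smooth (q.left ≫ Q.hom) := by rw [Over.w]; exact h
    exact GrpSchLib.smooth_of_flat_surjective q.left Q.hom
  · haveI := h
    haveI : Nonempty Q.left := ⟨q.left (Classical.arbitrary _)⟩
    haveI : PreconnectedSpace Q.left := by
      rw [preconnectedSpace_iff_univ, ← q.left.surjective.range_eq]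
      exact isPreconnected_range q.left.continuous
    exact ⟨inferInstance⟩

end Groth.Agent.AGStr.QuotAlgClosed
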