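import Groth.Agent.AGStr.Basic
import Groth.Agent.GrpSchLib.HomFinite
import Groth.Agent.GrpSchLib.HomFlat
import Groth.Agent.GrpSchLib.FieldReduced
import Mathlib.AlgebraicGeometry.Morphisms.FlatDescent
import Mathlib.AlgebraicGeometry.Morphisms.Finite

/-! A finite group scheme over a perfect field is reduced part times neutral component. -/

universe u

open CategoryTheory Limits AlgebraicGeometry MonoidalCategory CartesianMonoidalCategory MonObj GrpObj
open CategoryTheory.Functor.Monoidal CategoryTheory.Functor.LaxMonoidal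

namespace Groth.Agent.AGStr

variable {k : Type u} [Field k]

/-- A finite scheme over a field is a finite discrete space. -/
theorem finite_discrete (X : Over (Spec (CommRingCat.of k))) [IsFinite X.hom] :
    Finite X.left ∧ DiscreteTopology X.left := by
  haveI : IsAffine X.left := isAffine_of_isAffineHom X.hom
  haveI : JacobsonSpace X.left := LocallyOfFiniteType.jacobsonSpace X.hom
  haveI : Finite X.left := by
    refine Set.finite_univ_iff.mp ?_
    refine (X.hom.finite_preimage_singleton (IsLocalRing.closedPoint k)).subset fun x _ => ?_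
    exact @Subsingleton.elim (PrimeSpectrum k) inferInstance _ _
  exact ⟨inferInstance, JacobsonSpace.discreteTopology (Set.toFinite _)⟩

/-- A rational point of a reduced finite scheme over an algebraically closed field is an open immersion. -/
theorem isOpenImmersion_point (X : Over (Spec (CommRingCat.of k))) [IsFinite X.hom] [IsReduced X.left]
    (a : 𝟙_ (Over (Spec (CommRingCat.of k))) ⟶ X) : IsOpenImmersion a.left := by
  obtain ⟨-, hd⟩ := finite_discrete X
  haveI := hd
  let pt : ↥(𝟙_ (Over (Spec (CommRingCat.of k)))).left := IsLocalRing.closedPoint k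
  let U : X.left.Opens := ⟨{a.left pt}, isOpen_discrete _⟩
  have hr : Set.range a.left ⊆ Set.range U.ι := by
    rintro _ ⟨t, rfl⟩
    rw [Scheme.Opens.range_ι]
    exact congrArg a.left (Subsingleton.elim t pt)
  let l := IsOpenImmersion.lift U.ι a.left hr
  have hl : l ≫ U.ι = a.left := IsOpenImmersion.lift_fac _ _ _
  haveI : IsClosedImmersion a.left := by
    haveI : IsClosedImmersion (a.left ≫ X.hom) := by
      rw [Over.w a]; exact inferInstanceAs (IsClosedImmersion (𝟙 _))
    exact IsClosedImmersion.of_comp a.left X.hom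
  haveI : IsClosedImmersion (l ≫ U.ι) := hl.symm ▸ inferInstance
  haveI : IsClosedImmersion l := IsClosedImmersion.of_comp l U.ι
  haveI : Surjective l := ⟨fun u => ⟨pt, by
    refine U.ι.isOpenEmbedding.injective ?_
    rw [← Scheme.Hom.comp_apply, hl]
    exact u.2.symm⟩⟩
  haveI : IsIso l := isIso_of_isClosedImmersion_of_surjective l
  rw [← hl]
  infer_instance

theorem isIso_mul_algClosed [IsAlgClosed k] {G Gr G₀ : Over (Spec (CommRingCat.of k))} [GrpObj G] [GrpObj G₀]
    [IsFinite G.hom] (r : Gr ⟶ G) [IsClosedImmersion r.left] [IsReduced Gr.left] [Surjective r.left]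
    (i₀ : G₀ ⟶ G) [IsMonHom i₀] [IsOpenImmersion i₀.left] [ConnectedSpace G₀.left] :
    IsIso ((r ⊗ₘ i₀) ≫ μ[G]) := by
  haveI : IsFinite Gr.hom := by rw [← Over.w r]; infer_instance
  obtain ⟨_, _⟩ := finite_discrete G
  haveI : DiscreteTopology G₀.left := i₀.left.isOpenEmbedding.toIsEmbedding.discreteTopology
  haveI : Subsingleton G₀.left := PreconnectedSpace.trivial_of_discrete
  obtain ⟨_, _⟩ := finite_discrete Gr
  let e : ∀ a : 𝟙_ (Over (Spec (CommRingCat.of k))) ⟶ Gr, G₀ ⟶ Gr ⊗ G₀ := fun a => (λ_ G₀).inv ≫ (a ▷ G₀)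
  let m := (r ⊗ₘ i₀) ≫ μ[G]
  let pt : ↥(𝟙_ (Over (Spec (CommRingCat.of k)))).left := IsLocalRing.closedPoint k
  have hem : ∀ a, e a ≫ m = i₀ ≫ (GrpSchLib.HomFinite.trans (a ≫ r)).hom := by
    intro a
    have h1 : e a ≫ (r ⊗ₘ i₀) = lift (toUnit G₀ ≫ a ≫ r) i₀ := by
      ext <;> simp [e]
    show e a ≫ (r ⊗ₘ i₀) ≫ μ[G] = _
    rw [← Category.assoc, h1, ← Hom.mul_def]
    simp [GrpSchLib.HomFinite.trans, MonObj.comp_mul]
  have hopen : ∀ a, IsOpenImmersion (e a).left ∧ IsOpenImmersion ((e a).left ≫ m.left) := by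
    intro a
    haveI := isOpenImmersion_point Gr a
    haveI : IsOpenImmersion (a ▷ G₀).left :=
      MorphismProperty.of_isPullback (GrpSchLib.isPullback_whiskerRight a G₀).flip ‹IsOpenImmersion a.left›
    haveI : IsIso (λ_ G₀).inv.left := ((Over.forget _).mapIso (λ_ G₀)).isIso_inv
    haveI : IsIso (GrpSchLib.HomFinite.trans (a ≫ r)).hom.left :=
      ((Over.forget _).mapIso (GrpSchLib.HomFinite.trans (a ≫ r))).isIso_hom
    refine ⟨by show IsOpenImmersion ((λ_ G₀).inv ≫ (a ▷ G₀)).left; rw [Over.comp_left]; infer_instance, ?_⟩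
    rw [← Over.comp_left, hem, Over.comp_left]
    infer_instance
  -- each point comes from a rational point of the reduced part
  have hcov : ∀ p : (Gr ⊗ G₀).left, ∃ a, p = (η[G₀] ≫ e a).left pt ∧ (fst Gr G₀).left p = a.left pt := by
    intro p
    have hx : IsClosed ({(fst Gr G₀).left p} : Set Gr.left) := isClosed_discrete _
    let a : 𝟙_ (Over (Spec (CommRingCat.of k))) ⟶ Gr :=
      Over.homMk (pointOfClosedPoint Gr.hom _ hx) (pointOfClosedPoint_comp Gr.hom _ hx)
    have ha : a.left pt = (fst Gr G₀).left p := pointOfClosedPoint_apply Gr.hom _ hx _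
    have hsq := GrpSchLib.isPullback_whiskerRight a G₀
    obtain ⟨q, -, hq⟩ := Scheme.exists_preimage_of_isPullback hsq.flip pt p ha
    refine ⟨a, ?_, ha.symm⟩
    haveI : IsIso (λ_ G₀).inv.left := ((Over.forget _).mapIso (λ_ G₀)).isIso_inv
    obtain ⟨q', hq'⟩ := (λ_ G₀).inv.left.surjective q
    show p = (η[G₀] ≫ (λ_ G₀).inv ≫ (a ▷ G₀)).left pt
    rw [Over.comp_left, Over.comp_left, Scheme.Hom.comp_apply, Scheme.Hom.comp_apply,
      Subsingleton.elim (η[G₀].left pt) q', hq', hq]
  have hval : ∀ p a, p = (η[G₀] ≫ e a).left pt → m.left p = r.left (a.left pt) := by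
    intro p a hp
    rw [hp, ← Scheme.Hom.comp_apply, ← Over.comp_left, Category.assoc, hem, ← Category.assoc,
      IsMonHom.one_hom, ← Scheme.Hom.comp_apply, ← Over.comp_left]
    congr 3
    simp [GrpSchLib.HomFinite.trans, MonObj.comp_mul, MonObj.one_eq_one]
  haveI : IsOpenImmersion m.left := by
    refine IsOpenImmersion.of_forall_source_exists m.left (fun p p' h => ?_) fun p => ?_
    · obtain ⟨a, hp, ha⟩ := hcov p
      obtain ⟨a', hp', ha'⟩ := hcov p'
      rw [hval p a hp, hval p' a' hp'] at h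
      have h' : a.left pt = a'.left pt := r.left.isClosedEmbedding.injective h
      have : a = a' := Over.OverMorphism.ext (ext_of_apply_closedPoint_eq Gr.hom (Over.w a) (Over.w a') h')
      rw [hp, hp', this]
    · obtain ⟨a, hp, -⟩ := hcov p
      exact ⟨_, (e a).left, (hopen a).1, ⟨η[G₀].left pt, hp.symm⟩, (hopen a).2⟩
  haveI : Surjective m.left := ⟨fun y => by
    obtain ⟨x, rfl⟩ := r.left.surjective y
    have hx : IsClosed ({x} : Set Gr.left) := isClosed_discrete _
    let a : 𝟙_ (Over (Spec (CommRingCat.of k))) ⟶ Gr :=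
      Over.homMk (pointOfClosedPoint Gr.hom _ hx) (pointOfClosedPoint_comp Gr.hom _ hx)
    exact ⟨_, (hval _ a rfl).trans (congrArg r.left (pointOfClosedPoint_apply Gr.hom _ hx _))⟩⟩
  haveI : IsIso ((Over.forget _).map m) := (isIso_iff_isOpenImmersion_and_surjective m.left).mpr ⟨‹_›, ‹_›⟩
  exact isIso_of_reflects_iso m (Over.forget _)

/-- Finite group schemes over perfect fields. -/
theorem isIso_mul {G Gr G₀ : Over (Spec (CommRingCat.of k))} [PerfectField k] [GrpObj G] [GrpObj G₀]
    [IsFinite G.hom] (r : Gr ⟶ G) [IsClosedImmersion r.left] [IsReduced Gr.left] [Surjective r.left]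
    (i₀ : G₀ ⟶ G) [IsMonHom i₀] [IsOpenImmersion i₀.left] [ConnectedSpace G₀.left] :
    IsIso ((r ⊗ₘ i₀) ≫ μ[G]) := by
  let s := Spec.map (CommRingCat.ofHom (algebraMap k (AlgebraicClosure k)))
  let F := Over.pullback s
  obtain ⟨_, _⟩ := finite_discrete G
  haveI : QuasiCompact i₀.left :=
    ⟨fun U hU _ => by
      haveI : Finite G₀.left := Finite.of_injective i₀.left i₀.left.isOpenEmbedding.injective
      exact (Set.toFinite _).isCompact⟩
  haveI : LocallyOfFiniteType G₀.hom := by rw [← Over.w i₀]; infer_instance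
  haveI : QuasiCompact G₀.hom := by rw [← Over.w i₀]; infer_instance
  haveI : IsFinite (F.obj G).hom := inferInstanceAs (IsFinite (pullback.snd G.hom s))
  haveI : IsReduced (F.obj Gr).left := GrpSchLib.isReduced_pullback_of_perfectField Gr.hom s
  haveI : IsClosedImmersion (F.map r).left :=
    MorphismProperty.overPullbackMap (P := @IsClosedImmersion) _ r ‹_›
  haveI : Surjective (F.map r).left := MorphismProperty.overPullbackMap (P := @Surjective) _ r ‹_›
  haveI : IsOpenImmersion (F.map i₀).left :=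
    MorphismProperty.overPullbackMap (P := @IsOpenImmersion) _ i₀ ‹_›
  haveI : ConnectedSpace (F.obj G₀).left := connectedSpace_pullback (AlgebraicClosure k) s
  have h := isIso_mul_algClosed (F.map r) (F.map i₀)
  have e : (F.map r ⊗ₘ F.map i₀) ≫ μ[F.obj G] =
      Functor.LaxMonoidal.μ F Gr G₀ ≫ F.map ((r ⊗ₘ i₀) ≫ μ[G]) := by
    rw [F.map_comp, ← μ_natural_assoc]
    rfl
  rw [e] at h
  haveI : IsIso (Functor.LaxMonoidal.μ F Gr G₀) := (μIso F Gr G₀).isIso_hom
  haveI : IsIso (F.map ((r ⊗ₘ i₀) ≫ μ[G])) := IsIso.of_isIso_comp_left (Functor.LaxMonoidal.μ F Gr G₀) _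
  haveI : IsIso (F.map ((r ⊗ₘ i₀) ≫ μ[G])).left := ((Over.forget _).mapIso (asIso (F.map ((r ⊗ₘ i₀) ≫ μ[G])))).isIso_hom
  haveI : Surjective s := ⟨fun y => ⟨IsLocalRing.closedPoint _, @Subsingleton.elim (PrimeSpectrum k) inferInstance _ _⟩⟩
  have sq : IsPullback (F.map ((r ⊗ₘ i₀) ≫ μ[G])).left (pullback.fst (Gr ⊗ G₀).hom s)
      (pullback.fst G.hom s) ((r ⊗ₘ i₀) ≫ μ[G]).left := by
    refine (IsPullback.of_bot ?_ (pullback.lift_fst _ _ _).symm (IsPullback.of_hasPullback G.hom s)).flip
    rw [pullback.lift_snd, Over.w ((r ⊗ₘ i₀) ≫ μ[G])]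
    exact IsPullback.of_hasPullback _ s
  haveI : Flat s := inferInstance
  haveI : QuasiCompact s := inferInstance
  haveI : IsIso ((Over.forget _).map ((r ⊗ₘ i₀) ≫ μ[G])) := MorphismProperty.of_isPullback_of_descendsAlong
    (P := MorphismProperty.isomorphisms Scheme.{u}) (Q := @Surjective ⊓ @Flat ⊓ @QuasiCompact) sq
    ⟨⟨MorphismProperty.pullback_fst _ _ ‹Surjective s›, MorphismProperty.pullback_fst _ _ ‹Flat s›⟩,
      MorphismProperty.pullback_fst _ _ ‹QuasiCompact s›⟩ ‹IsIso (F.map ((r ⊗ₘ i₀) ≫ μ[G])).left›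
  exact isIso_of_reflects_iso _ (Over.forget _)

end Groth.Agent.AGStr
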