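import Groth.Agent.GrpSchLib.AntiAffineGMod

/-! Natural families of values on affine test schemes are global functions. -/

universe u

open CategoryTheory Limits AlgebraicGeometry MonoidalCategory CartesianMonoidalCategory MonObj GrpObj TensorProduct
open TopologicalSpace Opposite
open Groth.Agent.GrpSchLib.Kunneth

namespace Groth.Agent.AGStr

variable {k : Type u} [Field k] {G : Over (Spec (CommRingCat.of k))}

/-- Natural families of values on affine test schemes are given by a global function. -/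
theorem exists_fn
    (F : ∀ (B : Type u) [CommRing B] [Algebra k B], (VecGrp.pt k B ⟶ G) → B)
    (hF : ∀ {B B' : Type u} [CommRing B] [Algebra k B] [CommRing B'] [Algebra k B'] (φ : B →ₐ[k] B') (g : VecGrp.pt k B ⟶ G),
      φ (F B g) = F B' (VecGrp.ptMap φ ≫ g)) :
    ∃ s : Fn G, ∀ (B : Type u) [CommRing B] [Algebra k B] (g : VecGrp.pt k B ⟶ G), F B g = pullFn g s := by
  let U : G.left.affineOpens → G.left.Opens := fun V => V.1
  let sf : ∀ V : G.left.affineOpens, Γ(G.left, U V) := fun V => letI := algOpen V.2; F _ (openPt V.2)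
  have hres : ∀ {V W : G.left.Opens} (hV : IsAffineOpen V) (hW : IsAffineOpen W) (h : W ≤ V),
      G.left.presheaf.map (homOfLE h).op (sf ⟨V, hV⟩) = sf ⟨W, hW⟩ := by
    intro V W hV hW h
    letI := algOpen hV
    letI := algOpen hW
    exact (hF (resAlg hV hW h) (openPt hV)).trans (by rw [ptMap_resAlg])
  have hcov : (⊤ : G.left.Opens) ≤ iSup U := (iSup_affineOpens_eq_top G.left).ge
  obtain ⟨s, hs, -⟩ := G.left.sheaf.existsUnique_gluing' U ⊤ (fun b => homOfLE le_top) hcov sf (fun V W => by
    refine eq_of_forall_affine fun Z hZ hZl => ?_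
    have e1 := hres V.2 hZ (hZl.trans inf_le_left)
    have e2 := hres W.2 hZ (hZl.trans inf_le_right)
    refine Eq.trans ?_ ((e1.trans e2.symm).trans ?_)
    · refine Eq.trans ?_ rfl
      exact (congr($(G.left.presheaf.map_comp _ _) (sf V))).symm
    · exact congr($(G.left.presheaf.map_comp _ _) (sf W)))
  refine ⟨s, fun B _ _ g => ?_⟩
  have hloc : ∀ V : G.left.affineOpens, letI := algOpen V.2; F _ (openPt V.2) = pullFn (openPt V.2) s := fun V => by
    letI := algOpen V.2
    refine Eq.trans ?_ (pullFn_openPt V.2 s).symm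
    exact (hs V).symm
  -- locally on the test scheme
  let S : Set B := {r | ∃ (V : G.left.affineOpens), PrimeSpectrum.basicOpen r ≤ g.left ⁻¹ᵁ (U V)}
  have hspan : Ideal.span S = ⊤ := by
    rw [← PrimeSpectrum.zeroLocus_empty_iff_eq_top, PrimeSpectrum.zeroLocus_span, Set.eq_empty_iff_forall_notMem]
    intro p hp
    obtain ⟨V, hV⟩ := Opens.mem_iSup.mp (hcov (show g.left p ∈ (⊤ : G.left.Opens) from trivial))
    obtain ⟨_, ⟨r, rfl⟩, hr, hle⟩ := PrimeSpectrum.isTopologicalBasis_basic_opens.exists_subset_of_mem_open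
      (show p ∈ ((g.left ⁻¹ᵁ (U V)).carrier : Set (PrimeSpectrum B)) from hV) (g.left ⁻¹ᵁ (U V)).isOpen
    exact hr (hp ⟨V, hle⟩)
  suffices hrad : ∀ r ∈ S, ∃ m : ℕ, r ^ m * (F B g - pullFn g s) = 0 by
    let I : Ideal B := LinearMap.ker (LinearMap.toSpanSingleton B B (F B g - pullFn g s))
    have hI : ∀ a, a ∈ I ↔ a * (F B g - pullFn g s) = 0 := fun a => by simp [I]
    have : I.radical = ⊤ := top_unique (hspan ▸ Ideal.span_le.2 fun r hr => by
      obtain ⟨m, hm⟩ := hrad r hr
      exact ⟨m, (hI _).2 hm⟩)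
    rw [Ideal.radical_eq_top] at this
    exact sub_eq_zero.mp (by simpa using (hI 1).1 (this ▸ trivial))
  intro r hr
  obtain ⟨V, hle⟩ := hr
  letI := algOpen V.2
  let Br := Localization.Away r
  let φ : B →ₐ[k] Br := IsScalarTower.toAlgHom k B Br
  let h := VecGrp.ptMap φ ≫ g
  have hrange : Set.range h.left ⊆ Set.range V.2.fromSpec := by
    rw [V.2.range_fromSpec]
    rintro _ ⟨q, rfl⟩
    refine hle ?_
    have : (PrimeSpectrum.comap (algebraMap B Br) q) ∈ (PrimeSpectrum.basicOpen r : Set _) := by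
      rw [← PrimeSpectrum.localization_away_comap_range Br r]
      exact ⟨q, rfl⟩
    exact this
  haveI := V.2.isOpenImmersion_fromSpec
  let q := Spec.preimage (IsOpenImmersion.lift V.2.fromSpec h.left hrange)
  have hq : Spec.map q ≫ V.2.fromSpec = h.left := by rw [Spec.map_preimage, IsOpenImmersion.lift_fac]
  let ψ : Γ(G.left, V.1) →ₐ[k] Br := AlgHom.mk q.hom fun a => by
    have e : Spec.preimage (V.2.fromSpec ≫ G.hom) ≫ q = CommRingCat.ofHom (algebraMap k Br) := by
      apply Spec.map_injective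
      rw [Spec.map_comp]
      refine (congrArg (Spec.map q ≫ ·) (Spec.map_preimage _)).trans ?_
      rw [← Category.assoc, hq]
      exact Over.w h
    exact congr($e a)
  have hh : VecGrp.ptMap ψ ≫ openPt V.2 = h := Over.OverMorphism.ext hq
  have hz : algebraMap B Br (F B g - pullFn g s) = 0 := by
    rw [map_sub, sub_eq_zero]
    calc algebraMap B Br (F B g) = F Br h := hF φ g
      _ = ψ (F _ (openPt V.2)) := by rw [hF ψ, hh]
      _ = pullFn h s := by rw [hloc, ← pullFn_ptMap, hh]
      _ = _ := pullFn_ptMap φ g s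
  obtain ⟨⟨_, m, rfl⟩, hm⟩ := (IsLocalization.map_eq_zero_iff (Submonoid.powers r) Br _).1 hz
  exact ⟨m, hm⟩

end Groth.Agent.AGStr
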