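import Groth.Agent.AlgSpDec.ActQuotient
import Groth.Agent.RedSub30.Quot
import Groth.Agent.FpqcDescLib.Group
import Groth.Agent.SrcDescent.SchemeFppf

/-! The quotient of a group scheme by a normal infinitesimal subgroup scheme. -/

set_option linter.style.haveILetI false

universe u

open CategoryTheory CategoryTheory.Limits MonoidalCategory CartesianMonoidalCategory MonObj GrpObj AlgebraicGeometry

namespace Groth.Agent.AGStr

variable {k : Type u} [Field k]

theorem exists_quotient_infinitesimal (G D : Over (Spec (CommRingCat.of k))) [GrpObj G]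
    [LocallyOfFiniteType G.hom] [QuasiCompact G.hom] [GrpObj D] [IsFinite D.hom] [UniversallyInjective D.hom]
    (i : D ⟶ G) [IsMonHom i] [IsClosedImmersion i.left] (hn : AlgGrp.IsNormalHom i) :
    ∃ (Q : Over (Spec (CommRingCat.of k))) (_ : GrpObj Q) (q : G ⟶ Q), IsMonHom q ∧
      Surjective q.left ∧ Flat q.left ∧ IsFinite q.left ∧ LocallyOfFinitePresentation q.left ∧
      LocallyOfFiniteType Q.hom ∧ QuasiCompact Q.hom ∧ FpqcDescLib.Covers q.left ∧
      FpqcDescLib.IsCosetMap i q := by
  haveI : Mono i := (Over.forget _).mono_of_mono_map (inferInstanceAs (Mono i.left))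
  have hlift : ∀ {T : Over (Spec (CommRingCat.of k))} (g : T ⟶ D) (x : T ⟶ G),
      lift g x ≫ ((fst D G ≫ i) * snd D G) = (g ≫ i) * x := fun g x => by
    simp only [MonObj.comp_mul, lift_fst_assoc, lift_snd]
  let a : AlgGrp.Action D G :=
    { act := (fst D G ≫ i) * snd D G
      one_act := by
        have e : η[D] ▷ G = lift (1 : 𝟙_ _ ⊗ G ⟶ D) (snd _ _) := by
          apply CartesianMonoidalCategory.hom_ext
          · simp [MonObj.one_eq_one, MonObj.comp_one]
          · simp
        rw [e, hlift, MonObj.one_comp, _root_.one_mul, CartesianMonoidalCategory.leftUnitor_hom]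
      mul_act := by
        have e1 : μ[D] ▷ G = lift ((fst (D ⊗ D) G ≫ fst D D) * (fst (D ⊗ D) G ≫ snd D D)) (snd _ _) := by
          apply CartesianMonoidalCategory.hom_ext
          · rw [lift_fst, whiskerRight_fst, ← MonObj.comp_mul, Hom.mul_def, lift_fst_snd, Category.id_comp]
          · simp
        have e2 : (α_ D D G).hom ≫ (D ◁ ((fst D G ≫ i) * snd D G)) = lift (fst (D ⊗ D) G ≫ fst D D)
            (lift (fst (D ⊗ D) G ≫ snd D D) (snd _ _) ≫ ((fst D G ≫ i) * snd D G)) := by
          apply CartesianMonoidalCategory.hom_ext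
          · simp
          · have e3 : (α_ D D G).hom ≫ snd D (D ⊗ G) = lift (fst (D ⊗ D) G ≫ snd D D) (snd _ _) := by
              apply CartesianMonoidalCategory.hom_ext <;> simp
            rw [lift_snd, Category.assoc, whiskerLeft_snd, reassoc_of% e3]
        rw [e1, hlift, reassoc_of% e2, hlift, hlift, MonObj.mul_comp, _root_.mul_assoc] }
  have hfree : ∀ (T : Over (Spec (CommRingCat.of k))) (g : T ⟶ D) (x : T ⟶ G),
      lift g x ≫ a.act = x → g = toUnit T ≫ η[D] := by
    intro T g x hx
    rw [show lift g x ≫ a.act = (g ≫ i) * x from hlift g x] at hx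
    rw [← cancel_mono i, Category.assoc, IsMonHom.one_hom i, mul_eq_right.1 hx]
    rfl
  haveI : Flat D.hom := inferInstance
  haveI : LocallyOfFinitePresentation D.hom := inferInstance
  have hs : Mor2.IsFinLocFree (AlgSpDec.ActGroupoid.gpd a).s :=
    ⟨MorphismProperty.pullback_snd (P := @IsFinite) _ _ inferInstance,
      MorphismProperty.pullback_snd (P := @Flat) _ _ inferInstance,
      MorphismProperty.pullback_snd (P := @LocallyOfFinitePresentation) _ _ inferInstance⟩
  have hG : Mor2.IsFinLocFree D.hom := ⟨inferInstance, inferInstance, inferInstance⟩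
  obtain ⟨M, m₀, hm, hsurj, hpb, -⟩ :=
    AlgSpDec.FinLocFreeQuot.exists_quotient (AlgSpDec.ActGroupoid.gpd a) hs
      (AlgSpDec.ActQuotient.isEqvRel a hfree)
      (fun Z _ ⟨z, hz⟩ => ⟨z, hz, AlgSpDec.ActQuotient.exists_affine_class a hG (Or.inr (Or.inr inferInstance)) z⟩)
  let q : G ⟶ M := Over.homMk m₀.left (Over.w m₀)
  haveI : IsFinite q.left := hm.1
  haveI : Flat q.left := hm.2.1
  haveI : LocallyOfFinitePresentation q.left := hm.2.2
  haveI : Surjective q.left := hsurj
  have hsq : IsPullback a.act (snd D G) q q := by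
    refine IsPullback.of_map (Over.forget _) (Over.OverMorphism.ext hpb.w) hpb
  have hp : FpqcDescLib.Covers q.left :=
    FpqcDescLib.covers_of_isCovering (FpqcDescLib.isCovering_of_lfp q.left)
  have hc : FpqcDescLib.IsCosetMap i q := by
    intro T x y
    constructor
    · intro e
      let h := hsq.lift y x e.symm ≫ fst D G
      have h4 : hsq.lift y x e.symm = lift h x := by
        apply CartesianMonoidalCategory.hom_ext
        · rw [lift_fst]
        · rw [lift_snd, hsq.lift_snd]
      have h5 : (h ≫ i) * x = y := by rw [← hlift, ← h4]; exact hsq.lift_fst _ _ _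
      obtain ⟨h', hh'⟩ := hn T x⁻¹ h
      refine ⟨h', ?_⟩
      rw [← h5, ← hh']
      group
    · rintro ⟨h, rfl⟩
      obtain ⟨h', hh'⟩ := hn T x h
      have h6 : x * (h ≫ i) = (h' ≫ i) * x := by rw [← hh', inv_mul_cancel_right]
      have := congrArg (fun φ => lift h' x ≫ φ) hsq.w
      simp only [← Category.assoc, lift_snd] at this
      rw [show lift h' x ≫ a.act = (h' ≫ i) * x from hlift h' x, ← h6] at this
      exact this.symm
  obtain ⟨sQ, hq⟩ := FpqcDescLib.exists_grpObj hp hc hn
  letI := sQ
  haveI : LocallyOfFiniteType M.hom := by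
    haveI : LocallyOfFiniteType (q.left ≫ M.hom) := by rw [Over.w]; infer_instance
    exact SrcDescent.locallyOfFiniteType_of_fppf_comp q.left M.hom
  haveI : CompactSpace G.left := (quasiCompact_iff_compactSpace G.hom).mp inferInstance
  haveI : CompactSpace M.left := q.left.surjective.compactSpace q.left.continuous
  haveI : QuasiCompact M.hom := (quasiCompact_iff_compactSpace M.hom).mpr inferInstance
  exact ⟨M, sQ, q, hq, inferInstance, inferInstance, inferInstance, inferInstance, inferInstance,
    inferInstance, hp, hc⟩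

end Groth.Agent.AGStr
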