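import Groth.Agent.GrpSchLib.KernelGrp
import Groth.Agent.GrpSchLib.MonoSubgroup
import Groth.Agent.GrpSchLib.HomFlat
import Groth.Agent.GrpSchLib.AntiAffineHom
import Groth.Agent.AGStr.Basic
import Mathlib.AlgebraicGeometry.Morphisms.UniversallyInjective

/-! The infinitesimal part of a finite group scheme, and its normality in any ambient group. -/

universe u

open CategoryTheory Limits AlgebraicGeometry MonoidalCategory CartesianMonoidalCategory MonObj GrpObj

namespace Groth.Agent.AGStr

variable {k : Type u} [Field k]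

theorem universallyInjective_of_surjective {P X S : Scheme.{u}} (σ : P ⟶ X) (f : X ⟶ S) [Surjective σ]
    [Mono (σ ≫ f)] : UniversallyInjective f := by
  rw [UniversallyInjective.iff_diagonal]
  haveI : Surjective (pullback.diagonal (σ ≫ f)) :=
    (UniversallyInjective.iff_diagonal _).mp inferInstance
  let mm : pullback (σ ≫ f) (σ ≫ f) ⟶ pullback f f :=
    pullback.map _ _ _ _ σ σ (𝟙 _) (by simp) (by simp)
  haveI : Surjective mm :=
    MorphismProperty.pullbackMap (P := @Surjective) (h₁ := ‹Surjective σ›) (h₂ := ‹Surjective σ›) rfl rfl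
  have h1 : σ ≫ pullback.diagonal f = pullback.diagonal (σ ≫ f) ≫ mm := by
    apply pullback.hom_ext
    · rw [Category.assoc, Category.assoc, pullback.diagonal_fst, Category.comp_id]
      refine Eq.symm ?_
      rw [show mm ≫ pullback.fst f f = pullback.fst (σ ≫ f) (σ ≫ f) ≫ σ from pullback.lift_fst _ _ _,
        pullback.diagonal_fst_assoc]
    · rw [Category.assoc, Category.assoc, pullback.diagonal_snd, Category.comp_id]
      refine Eq.symm ?_
      rw [show mm ≫ pullback.snd f f = pullback.snd (σ ≫ f) (σ ≫ f) ≫ σ from pullback.lift_snd _ _ _,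
        pullback.diagonal_snd_assoc]
  haveI : Surjective (σ ≫ pullback.diagonal f) := h1 ▸ inferInstance
  exact Surjective.of_comp σ (pullback.diagonal f)

/-- A scheme over a field with a surjective rational point is universally injective. -/
theorem universallyInjective_of_surjective_point (U : Over (Spec (CommRingCat.of k)))
    (σ : 𝟙_ (Over (Spec (CommRingCat.of k))) ⟶ U) [Surjective σ.left] : UniversallyInjective U.hom := by
  have h : σ.left ≫ U.hom = (𝟙_ (Over (Spec (CommRingCat.of k)))).hom := Over.w σ
  haveI : Mono (σ.left ≫ U.hom) := by rw [h]; exact inferInstanceAs (Mono (𝟙 _))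
  exact universallyInjective_of_surjective σ.left U.hom

/-- The product with a universally injective scheme having a rational point has the points of the
other factor. -/
theorem surjective_lift_of_universallyInjective (X U : Over (Spec (CommRingCat.of k)))
    (σ : 𝟙_ (Over (Spec (CommRingCat.of k))) ⟶ U) [UniversallyInjective U.hom] :
    Surjective (lift (𝟙 X) (toUnit X ≫ σ)).left := by
  haveI : UniversallyInjective (fst X U).left := MorphismProperty.pullback_fst _ _ ‹UniversallyInjective U.hom›
  refine ⟨fun p => ⟨(fst X U).left p, (fst X U).left.injective ?_⟩⟩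
  rw [← Scheme.Hom.comp_apply, ← Over.comp_left, lift_fst]
  rfl

variable {G : Over (Spec (CommRingCat.of k))} [GrpObj G]

/-- A finite subgroup scheme, when normal, contains a normal infinitesimal open subgroup scheme. -/
theorem exists_infinitesimal {N : Over (Spec (CommRingCat.of k))} [GrpObj N] (n : N ⟶ G) [IsMonHom n]
    [IsClosedImmersion n.left] [IsFinite N.hom] (hn : AlgGrp.IsNormalHom n) :
    ∃ (D : Over (Spec (CommRingCat.of k))) (_ : GrpObj D) (d : D ⟶ N), IsMonHom d ∧ IsOpenImmersion d.left ∧
      IsClosedImmersion d.left ∧ IsMonHom (d ≫ n) ∧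
      IsFinite D.hom ∧ UniversallyInjective D.hom ∧ AlgGrp.IsNormalHom (d ≫ n) ∧
      ∀ t, Set.range d.left = {η[N].left t} := by
  haveI : IsAffine N.left := isAffine_of_isAffineHom N.hom
  haveI : JacobsonSpace N.left := LocallyOfFiniteType.jacobsonSpace N.hom
  haveI : Finite N.left := by
    refine Set.finite_univ_iff.mp ?_
    refine (N.hom.finite_preimage_singleton (IsLocalRing.closedPoint k)).subset fun x _ => ?_
    exact @Subsingleton.elim (PrimeSpectrum k) inferInstance _ _
  haveI : DiscreteTopology N.left := JacobsonSpace.discreteTopology (Set.toFinite _)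
  let pt : ↥(𝟙_ (Over (Spec (CommRingCat.of k)))).left := IsLocalRing.closedPoint k
  let U : N.left.Opens := ⟨{η[N].left pt}, isOpen_discrete _⟩
  let D : Over (Spec (CommRingCat.of k)) := Over.mk (U.ι ≫ N.hom)
  let d : D ⟶ N := Over.homMk U.ι rfl
  have hd : Set.range d.left = {η[N].left pt} := Scheme.Opens.range_ι U
  haveI : IsOpenImmersion d.left := inferInstanceAs (IsOpenImmersion U.ι)
  haveI : IsClosedImmersion d.left := IsClosedImmersion.of_isPreimmersion _ (by rw [hd]; exact isClosed_discrete _)
  haveI : Mono d := (Over.forget _).mono_of_mono_map (inferInstanceAs (Mono d.left))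
  haveI : Mono n := (Over.forget _).mono_of_mono_map (inferInstanceAs (Mono n.left))
  have hlift : ∀ {T : Over (Spec (CommRingCat.of k))} (f : T ⟶ N),
      (∀ x, f.left x = η[N].left pt) → ∃ f' : T ⟶ D, f' ≫ d = f := by
    intro T f hf
    have hr : Set.range f.left ⊆ Set.range d.left := by rintro _ ⟨x, rfl⟩; rw [hd]; exact hf x
    exact ⟨Over.homMk (IsOpenImmersion.lift d.left f.left hr) (by
      rw [← Over.w d, IsOpenImmersion.lift_fac_assoc, Over.w f]), Over.OverMorphism.ext (IsOpenImmersion.lift_fac _ _ _)⟩
  obtain ⟨e, he⟩ := hlift η[N] fun x => congrArg η[N].left (Subsingleton.elim x pt)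
  haveI : Surjective e.left := ⟨fun x => ⟨pt, d.left.isOpenEmbedding.injective (by
    rw [← Scheme.Hom.comp_apply, ← Over.comp_left, he]
    exact (hd.subset ⟨x, rfl⟩).symm)⟩⟩
  haveI := universallyInjective_of_surjective_point D e
  -- morphisms out of products with `D` are tested on the section at the unit
  have hprod : ∀ (X : Over (Spec (CommRingCat.of k))) (f : X ⊗ D ⟶ N),
      (∀ x, (lift (𝟙 X) (toUnit X ≫ e) ≫ f).left x = η[N].left pt) → ∃ f' : X ⊗ D ⟶ D, f' ≫ d = f := by
    intro X f hf
    haveI := surjective_lift_of_universallyInjective X D e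
    refine hlift f fun p => ?_
    obtain ⟨x, rfl⟩ := (lift (𝟙 X) (toUnit X ≫ e)).left.surjective p
    rw [← Scheme.Hom.comp_apply, ← Over.comp_left]
    exact hf x
  obtain ⟨μ', hμ⟩ := hprod D ((fst D D ≫ d) * (snd D D ≫ d)) fun x => by
    rw [MonObj.comp_mul, lift_fst_assoc, Category.id_comp, lift_snd_assoc, Category.assoc, he]
    rw [show (toUnit D ≫ η[N]) = 1 from rfl, _root_.mul_one]
    exact hd.subset ⟨x, rfl⟩
  obtain ⟨v, hv⟩ := hlift d⁻¹ fun x => by
    obtain ⟨y, rfl⟩ := e.left.surjective x
    rw [← Scheme.Hom.comp_apply, ← Over.comp_left, GrpObj.comp_inv, he, MonObj.one_eq_one, inv_one]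
    exact congrArg (1 : 𝟙_ (Over (Spec (CommRingCat.of k))) ⟶ N).left (Subsingleton.elim y pt)
  obtain ⟨str, hdh⟩ := GrpSchLib.exists_grpObj_of_mono d e he μ' hμ v hv
  letI := str
  haveI := hdh
  haveI : IsFinite D.hom := by rw [← Over.w d]; infer_instance
  refine ⟨D, str, d, hdh, inferInstance, inferInstance, inferInstance, inferInstance, inferInstance, ?_,
    fun t => by rw [hd, Subsingleton.elim t pt]⟩
  intro T g x
  obtain ⟨c, hc⟩ := hn (G ⊗ D) (fst G D) (snd G D ≫ d)
  obtain ⟨c', hc'⟩ := hprod G c fun y => by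
    have h1 : lift (𝟙 G) (toUnit G ≫ e) ≫ c = 1 := by
      rw [← cancel_mono n, Category.assoc, ← hc, MonObj.comp_mul, MonObj.comp_mul, GrpObj.comp_inv,
        lift_fst, Category.assoc, lift_snd_assoc, Category.assoc, reassoc_of% he,
        show toUnit G ≫ η[N] ≫ n = 1 by rw [IsMonHom.one_hom n]; rfl, _root_.mul_one, mul_inv_cancel,
        MonObj.one_comp]
    rw [h1]
    show η[N].left ((toUnit G).left y) = _
    exact congrArg η[N].left (Subsingleton.elim _ pt)
  refine ⟨lift g x ≫ c', ?_⟩
  rw [Category.assoc, reassoc_of% hc', ← hc, MonObj.comp_mul, MonObj.comp_mul, GrpObj.comp_inv,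
    lift_fst, Category.assoc, lift_snd_assoc]

end Groth.Agent.AGStr
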