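import Groth.Agent.GrpSchLib.AntiAffineHom
import Groth.Agent.GrpSchLib.Shear
import Groth.Agent.AGStr.Basic
import Mathlib.AlgebraicGeometry.Morphisms.Etale
import Mathlib.AlgebraicGeometry.Morphisms.Finite
import Mathlib.AlgebraicGeometry.Group.Abelian

/-! The kernel of the separable part of an isogeny. -/

universe u

open CategoryTheory Limits AlgebraicGeometry MonoidalCategory CartesianMonoidalCategory MonObj GrpObj

namespace Groth.Agent.AGStr

variable {k : Type u} [Field k]

/-- A monomorphism cancels for flatness on the left. -/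
theorem flat_of_comp_mono {X Y Z : Scheme.{u}} (f : X ⟶ Y) (g : Y ⟶ Z) [Mono g] [Flat (f ≫ g)] : Flat f := by
  have sq : IsPullback f (𝟙 X) g (f ≫ g) :=
    IsPullback.of_isLimit' ⟨by rw [Category.id_comp]⟩ (PullbackCone.IsLimit.mk _ (fun s => s.snd)
      (fun s => by rw [← cancel_mono g, Category.assoc, s.condition]) (fun s => Category.comp_id _)
      (fun s m _ h2 => by rw [Category.comp_id] at h2; exact h2))
  exact MorphismProperty.of_isPullback sq.flip ‹Flat (f ≫ g)›

theorem finite_etale_of_kernel {G H Q N D M : Over (Spec (CommRingCat.of k))} [GrpObj G] [GrpObj H] [GrpObj Q]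
    [GrpObj N] [GrpObj D] [GrpObj M] [LocallyOfFiniteType Q.hom] [LocallyOfFiniteType H.hom]
    {φ : G ⟶ H} {χ : Q ⟶ H} (n : N ⟶ G) [IsClosedImmersion n.left] [IsMonHom n] [IsFinite N.hom]
    (q : G ⟶ Q) [IsMonHom q] [Surjective q.left] [Flat q.left] [IsFinite q.left]
    (m : M ⟶ Q) [IsMonHom m] [IsClosedImmersion m.left]
    (d : D ⟶ N) [IsOpenImmersion d.left] [IsFinite D.hom]
    (hn : AlgGrp.IsKernel n φ) (hd : AlgGrp.IsKernel (d ≫ n) q) (hm : AlgGrp.IsKernel m χ) (hfac : q ≫ χ = φ)
    (hD : Subsingleton D.left) : IsFinite M.hom ∧ Etale M.hom := by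
  haveI := GrpSchLib.AntiAffine.isSeparated_grp Q
  have hl0 : (n ≫ q) ≫ χ = toUnit N ≫ η[H] := by rw [Category.assoc, hfac, hn.w]
  let l : N ⟶ M := hm.lift (n ≫ q) (toUnit N) hl0
  have hl : l ≫ m = n ≫ q := hm.lift_fst _ _ _
  have sq : IsPullback n l q m := by
    refine IsPullback.of_bot (v₂₂ := χ) (h₃₁ := η[H]) (v₂₁ := toUnit M) ?_ hl.symm hm
    rw [toUnit_unique (l ≫ toUnit M) (toUnit N), hfac]
    exact hn
  have sq' : IsPullback n.left l.left q.left m.left := sq.map (Over.forget _)
  haveI : Surjective l.left := MorphismProperty.of_isPullback sq' ‹Surjective q.left›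
  haveI : Flat l.left := MorphismProperty.of_isPullback sq' ‹Flat q.left›
  haveI : IsFinite l.left := MorphismProperty.of_isPullback sq' ‹IsFinite q.left›
  haveI : LocallyOfFiniteType M.hom := by rw [← Over.w m]; infer_instance
  haveI : IsSeparated M.hom := by rw [← Over.w m]; infer_instance
  haveI : UniversallyClosed M.hom := by
    haveI : UniversallyClosed (l.left ≫ M.hom) := by rw [Over.w l]; infer_instance
    exact UniversallyClosed.of_comp_surjective l.left M.hom
  haveI : IsProper M.hom := ⟨⟩
  haveI : IsAffine N.left := isAffine_of_isAffineHom N.hom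
  haveI : Finite N.left := by
    refine Set.finite_univ_iff.mp ?_
    refine (N.hom.finite_preimage_singleton (IsLocalRing.closedPoint k)).subset fun x _ => ?_
    exact @Subsingleton.elim (PrimeSpectrum k) inferInstance _ _
  haveI : Finite M.left := Finite.of_surjective l.left l.left.surjective
  haveI : LocallyQuasiFinite M.hom :=
    LocallyQuasiFinite.of_finite_preimage_singleton _ fun _ => Set.toFinite _
  haveI hfin : IsFinite M.hom := IsFinite.of_isProper_of_locallyQuasiFinite M.hom
  refine ⟨hfin, ?_⟩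
  haveI : JacobsonSpace M.left := LocallyOfFiniteType.jacobsonSpace M.hom
  haveI : DiscreteTopology M.left := JacobsonSpace.discreteTopology (Set.toFinite _)
  let pt : ↥(𝟙_ (Over (Spec (CommRingCat.of k)))).left := IsLocalRing.closedPoint k
  let V : M.left.Opens := ⟨{η[M].left pt}, isOpen_discrete _⟩
  have hr : Set.range η[M].left ⊆ Set.range V.ι := by
    rintro _ ⟨t, rfl⟩
    rw [Scheme.Opens.range_ι]
    exact congrArg η[M].left (Subsingleton.elim t pt)
  let e := IsOpenImmersion.lift V.ι η[M].left hr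
  have he : e ≫ V.ι = η[M].left := IsOpenImmersion.lift_fac _ _ _
  -- the infinitesimal part covers the open point
  have hdl : d ≫ l = toUnit D ≫ η[M] := by
    haveI : Mono m := (Over.forget _).mono_of_mono_map (inferInstanceAs (Mono m.left))
    rw [← cancel_mono m, Category.assoc, hl, ← Category.assoc, hd.w, Category.assoc, IsMonHom.one_hom]
  haveI := hD
  have hdr : Set.range (d.left ≫ l.left) ⊆ Set.range V.ι := by
    rintro _ ⟨x, rfl⟩
    rw [← Over.comp_left, hdl, Over.comp_left, Scheme.Hom.comp_apply]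
    exact hr ⟨_, rfl⟩
  let dl := IsOpenImmersion.lift V.ι (d.left ≫ l.left) hdr
  have hdl' : dl ≫ V.ι = d.left ≫ l.left := IsOpenImmersion.lift_fac _ _ _
  haveI : Flat (dl ≫ V.ι) := hdl'.symm ▸ inferInstance
  haveI : Flat dl := flat_of_comp_mono dl V.ι
  obtain ⟨x₀⟩ : Nonempty D.left := ⟨η[D].left pt⟩
  haveI : Subsingleton ↥V.toScheme := ⟨fun a b => V.ι.isOpenEmbedding.injective (a.2.trans b.2.symm)⟩
  haveI : Surjective dl := ⟨fun v => ⟨x₀, Subsingleton.elim _ _⟩⟩
  haveI : QuasiCompact dl := by
    haveI : IsAffine D.left := isAffine_of_isAffineHom D.hom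
    exact ⟨fun U _ _ => (Set.toFinite _).isCompact⟩
  haveI : Epi dl := inferInstance
  have hc : dl = (toUnit D).left ≫ e := by
    rw [← cancel_mono V.ι, hdl', Category.assoc, he, ← Over.comp_left, ← Over.comp_left, hdl]
  have hVt : dl ≫ (V.ι ≫ M.hom) = (toUnit D).left := by
    rw [hc, Category.assoc, reassoc_of% he, Over.w η[M]]
    exact Category.comp_id _
  haveI : IsIso e := ⟨V.ι ≫ M.hom, by rw [← Category.assoc, he, Over.w η[M]]; rfl, by
    rw [← cancel_epi dl, ← Category.assoc, hVt, ← hc, Category.comp_id]⟩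
  haveI : IsOpenImmersion η[M].left := by rw [← he]; infer_instance
  haveI : IsOpenImmersion (pullback.diagonal M.hom) := (GrpSchLib.diagonal_iff_unit @IsOpenImmersion).mpr inferInstance
  exact Etale.of_formallyUnramified_of_flat _

end Groth.Agent.AGStr
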