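import Groth.Prelude.Def_AGF
import Groth.Agent.AGStr.Basic
import Groth.Agent.GrpSchLib.Action
import Groth.Agent.GrpSchLib.Shear
import Groth.Agent.H23.FinDiscrete
import Groth.Agent.VarGeom.OpenMap
import Mathlib.AlgebraicGeometry.PullbackCarrier
import Mathlib.AlgebraicGeometry.Morphisms.Flat

/-! Topology of quotients `G/H`: fibres of the orbit map, quotients by open subgroups. -/

universe u

open CategoryTheory Limits AlgebraicGeometry MonoidalCategory CartesianMonoidalCategory MonObj GrpObj

namespace Groth.Agent.AGStr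

variable {k : Type u} [Field k] {G H X : Over (Spec (CommRingCat.of k))} [GrpObj G] [GrpObj H]

theorem isPullback_left {A B C D : Over (Spec (CommRingCat.of k))} {f : A ⟶ B} {g : A ⟶ C} {f' : B ⟶ D}
    {g' : C ⟶ D} (h : IsPullback f g f' g') : IsPullback f.left g.left f'.left g'.left :=
  h.map (Over.forget _)

variable (a : AlgGrp.Action G X) (o : 𝟙_ (Over (Spec (CommRingCat.of k))) ⟶ X)

theorem one_orbitMap : η[G] ≫ a.orbitMap o = o := by
  show η[G] ≫ lift (𝟙 G) (toUnit G ≫ o) ≫ a.act = o
  rw [← Category.assoc, comp_lift, Category.comp_id, ← Category.assoc,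
    toUnit_unique (η[G] ≫ toUnit G) (𝟙 _), Category.id_comp]
  exact GrpSchLib.act_one a o

/-- The pairs of points of `G` with the same orbit point form the pullback of the diagonal. -/
theorem isPullback_diag (h : H ⟶ G)
    (hpb : IsPullback (fst G H) ((G ◁ h) ≫ μ[G]) (a.orbitMap o) (a.orbitMap o)) :
    IsPullback (lift (fst G H) ((G ◁ h) ≫ μ[G])) (fst G H ≫ a.orbitMap o)
      (a.orbitMap o ⊗ₘ a.orbitMap o) (lift (𝟙 X) (𝟙 X)) := by
  refine IsPullback.of_isLimit' ⟨?_⟩ (PullbackCone.IsLimit.mk _
    (fun s => hpb.lift (s.fst ≫ fst G G) (s.fst ≫ snd G G) ?_) (fun s => ?_) (fun s => ?_) (fun s m h1 h2 => ?_))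
  · apply CartesianMonoidalCategory.hom_ext
    · simp
    · simp only [Category.assoc, tensorHom_snd, lift_snd, Category.comp_id, lift_snd_assoc]
      exact hpb.w.symm
  · have h1 := congrArg (· ≫ fst X X) s.condition
    have h2 := congrArg (· ≫ snd X X) s.condition
    simp only [Category.assoc, tensorHom_fst, tensorHom_snd, lift_fst, lift_snd, Category.comp_id] at h1 h2 ⊢
    rw [h1, h2]
  · apply CartesianMonoidalCategory.hom_ext
    · simp
    · simp
  · have h1 := congrArg (· ≫ fst X X) s.condition
    simp only [Category.assoc, tensorHom_fst, lift_fst, Category.comp_id] at h1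
    rw [IsPullback.lift_fst_assoc, Category.assoc, h1]
  · apply hpb.hom_ext
    · rw [IsPullback.lift_fst, ← h1, Category.assoc, lift_fst]
    · rw [IsPullback.lift_snd, ← h1, Category.assoc, lift_snd]

/-- The fibre of the orbit map over the base point is the subgroup. -/
theorem mem_range_of_orbit_eq (h : H ⟶ G)
    (hpb : IsPullback (fst G H) ((G ◁ h) ≫ μ[G]) (a.orbitMap o) (a.orbitMap o)) (y : ↥G.left)
    (t : ↥(𝟙_ (Over (Spec (CommRingCat.of k)))).left) (hy : (a.orbitMap o).left y = o.left t) :
    y ∈ Set.range h.left := by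
  have hone : (a.orbitMap o).left (η[G].left t) = o.left t := by
    rw [← Scheme.Hom.comp_apply, ← Over.comp_left, one_orbitMap]
  obtain ⟨z, hz1, hz2⟩ := Scheme.exists_preimage_of_isPullback (isPullback_left hpb) (η[G].left t) y
    (hone.trans hy.symm)
  have hsq : IsPullback (lift (toUnit H ≫ η[G]) (𝟙 H)) (toUnit H) (fst G H) η[G] := by
    refine IsPullback.of_isLimit' ⟨by simp⟩ (PullbackCone.IsLimit.mk _ (fun s => s.fst ≫ snd G H)
      (fun s => ?_) (fun s => toUnit_unique _ _) (fun s m h1 h2 => ?_))
    · apply CartesianMonoidalCategory.hom_ext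
      · rw [Category.assoc, lift_fst, ← Category.assoc, toUnit_unique ((s.fst ≫ snd G H) ≫ toUnit H) s.snd]
        exact s.condition.symm
      · simp
    · rw [← h1, Category.assoc, lift_snd, Category.comp_id]
  obtain ⟨w, hw1, -⟩ := Scheme.exists_preimage_of_isPullback (isPullback_left hsq) z t hz1
  refine ⟨w, ?_⟩
  have e : lift (toUnit H ≫ η[G]) (𝟙 H) ≫ (G ◁ h) ≫ μ[G] = h := by
    rw [← Category.assoc, lift_whiskerLeft, Category.id_comp, ← Hom.mul_def]
    exact _root_.one_mul h
  rw [← hz2, ← hw1, ← Scheme.Hom.comp_apply, ← Over.comp_left, e]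

variable [LocallyOfFiniteType G.hom] [QuasiCompact G.hom]

/-- The quotient by a subgroup scheme with open image is finite. -/
theorem isFinite_quotient (h : H ⟶ G) (hopen : IsOpen (Set.range h.left)) (hq : AGF.IsQuotient h X a o) :
    IsFinite X.hom := by
  obtain ⟨hlft, hflat, hsurj, hpb⟩ := hq
  haveI := hlft; haveI := hflat; haveI := hsurj
  let π := a.orbitMap o
  let m : G ⊗ H ⟶ G ⊗ G := lift (fst G H) ((G ◁ h) ≫ μ[G])
  -- the pairs in the same orbit class form an open set
  have hm : IsOpen (Set.range m.left) := by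
    let e : G ⊗ G ≅ G ⊗ G :=
      { hom := lift (fst G G) μ[G]
        inv := lift (fst G G) ((fst G G)⁻¹ * snd G G)
        hom_inv_id := by
          apply CartesianMonoidalCategory.hom_ext
          · simp
          · rw [Category.assoc, lift_snd, MonObj.comp_mul, GrpObj.comp_inv, lift_fst, lift_snd, Category.id_comp,
              show (μ[G] : G ⊗ G ⟶ G) = fst G G * snd G G by rw [Hom.mul_def, lift_fst_snd, Category.id_comp],
              inv_mul_cancel_left]
        inv_hom_id := by
          apply CartesianMonoidalCategory.hom_ext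
          · simp
          · rw [Category.assoc, lift_snd, ← Hom.mul_def, mul_inv_cancel_left, Category.id_comp] }
    have he : m = (G ◁ h) ≫ e.hom := by
      apply CartesianMonoidalCategory.hom_ext <;> simp [m, e]
    have hsq : IsPullback (G ◁ h) (snd G H) (snd G G) h := by
      refine IsPullback.of_isLimit' ⟨by simp⟩ (PullbackCone.IsLimit.mk _ (fun s => lift (s.fst ≫ fst G G) s.snd)
        (fun s => ?_) (fun s => by simp) (fun s m h1 h2 => ?_))
      · apply CartesianMonoidalCategory.hom_ext
        · simp
        · simpa using s.condition.symm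
      · apply CartesianMonoidalCategory.hom_ext
        · rw [lift_fst, ← h1]; simp
        · simpa using h2
    have hpre : Set.range (G ◁ h).left = (snd G G).left ⁻¹' Set.range h.left := by
      ext z
      constructor
      · rintro ⟨w, rfl⟩
        exact ⟨(snd G H).left w, by rw [← Scheme.Hom.comp_apply, ← Scheme.Hom.comp_apply, ← Over.comp_left, ← Over.comp_left, hsq.w]⟩
      · rintro ⟨w, hw⟩
        obtain ⟨p, hp, -⟩ := Scheme.exists_preimage_of_isPullback (isPullback_left hsq) z w hw.symm
        exact ⟨p, hp⟩
    rw [he, Over.comp_left, Scheme.Hom.comp_base, TopCat.coe_comp, Set.range_comp, hpre]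
    haveI : IsIso e.hom.left := ((Over.forget _).mapIso e).isIso_hom
    exact e.hom.left.homeomorph.isOpenMap _ (hopen.preimage (snd G G).left.continuous)
  haveI : IsLocallyNoetherian X.left := LocallyOfFiniteType.isLocallyNoetherian X.hom
  haveI : LocallyOfFiniteType (π.left ≫ X.hom) := by rw [Over.w π]; infer_instance
  haveI : LocallyOfFiniteType π.left := locallyOfFiniteType_of_comp π.left X.hom
  have hππ : Surjective (π ⊗ₘ π).left ∧ UniversallyOpen (π ⊗ₘ π).left := by
    haveI : UniversallyOpen π.left := inferInstanceAs (UniversallyOpen (a.orbitMap o).left)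
    rw [MonoidalCategory.tensorHom_def]
    rw [Over.comp_left]
    have h1 : ∀ (P : MorphismProperty Scheme.{u}) [P.IsStableUnderBaseChange],
        P π.left → P (π ▷ G).left ∧ P (X ◁ π).left := by
      intro P _ hP
      refine ⟨?_, ?_⟩
      · exact MorphismProperty.of_isPullback (isPullback_left
          (IsPullback.of_isLimit' ⟨show (π ▷ G) ≫ fst X G = fst G G ≫ π by simp⟩
            (PullbackCone.IsLimit.mk _ (fun s => lift s.snd (s.fst ≫ snd X G))
              (fun s => by apply CartesianMonoidalCategory.hom_ext <;> simp [s.condition])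
              (fun s => by simp)
              (fun s m h1 h2 => by
                apply CartesianMonoidalCategory.hom_ext
                · simpa using h2
                · rw [lift_snd, ← h1]; simp)))).flip hP
      · exact MorphismProperty.of_isPullback (isPullback_left
          (IsPullback.of_isLimit' ⟨show (X ◁ π) ≫ snd X X = snd X G ≫ π by simp⟩
            (PullbackCone.IsLimit.mk _ (fun s => lift (s.fst ≫ fst X X) s.snd)
              (fun s => by apply CartesianMonoidalCategory.hom_ext <;> simp [s.condition])
              (fun s => by simp)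
              (fun s m h1 h2 => by
                apply CartesianMonoidalCategory.hom_ext
                · rw [lift_fst, ← h1]; simp
                · simpa using h2)))).flip hP
    obtain ⟨hs1, hs2⟩ := h1 @Surjective inferInstance
    obtain ⟨ho1, ho2⟩ := h1 @UniversallyOpen inferInstance
    haveI := hs1; haveI := hs2; haveI := ho1; haveI := ho2
    exact ⟨⟨fun z => by
      obtain ⟨y, rfl⟩ := (X ◁ π).left.surjective z
      obtain ⟨w, rfl⟩ := (π ▷ G).left.surjective y
      exact ⟨w, Scheme.Hom.comp_apply _ _ _⟩⟩, inferInstance⟩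
  haveI := hππ.1
  haveI := hππ.2
  have hdiag : IsOpen (Set.range (lift (𝟙 X) (𝟙 X)).left) := by
    have hp := isPullback_left (isPullback_diag a o h hpb)
    have hpre : (π ⊗ₘ π).left ⁻¹' Set.range (lift (𝟙 X) (𝟙 X)).left = Set.range m.left := by
      ext z
      constructor
      · rintro ⟨w, hw⟩
        obtain ⟨p, hp1, -⟩ := Scheme.exists_preimage_of_isPullback hp z w hw.symm
        exact ⟨p, hp1⟩
      · rintro ⟨w, rfl⟩
        exact ⟨(fst G H ≫ π).left w, by rw [← Scheme.Hom.comp_apply, ← Scheme.Hom.comp_apply, hp.w]⟩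
    rw [← Set.image_preimage_eq (Set.range (lift (𝟙 X) (𝟙 X)).left) (π ⊗ₘ π).left.surjective, hpre]
    exact (π ⊗ₘ π).left.isOpenMap _ hm
  have hclosed : ∀ x : ↥X.left, IsClosed {x} → IsOpen {x} := by
    intro x hx
    let T : Over (Spec (CommRingCat.of k)) := Over.mk (X.left.fromSpecResidueField x ≫ X.hom)
    let xT : T ⟶ X := Over.homMk (X.left.fromSpecResidueField x) rfl
    let ψ : T ⊗ X ⟶ X ⊗ X := xT ▷ X
    have hx' : ∀ p : ↥T.left, xT.left p = x := fun p => Scheme.fromSpecResidueField_apply _ p
    have himg : (snd T X).left '' (ψ.left ⁻¹' Set.range (lift (𝟙 X) (𝟙 X)).left) = {x} := by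
      refine Set.Subset.antisymm ?_ ?_
      · rintro _ ⟨z, ⟨w, hw⟩, rfl⟩
        have e1 : (lift (𝟙 X) (𝟙 X) ≫ fst X X).left w = (ψ ≫ fst X X).left z := by
          rw [Over.comp_left, Over.comp_left, Scheme.Hom.comp_apply, Scheme.Hom.comp_apply, hw]
        have e2 : (lift (𝟙 X) (𝟙 X) ≫ snd X X).left w = (ψ ≫ snd X X).left z := by
          rw [Over.comp_left, Over.comp_left, Scheme.Hom.comp_apply, Scheme.Hom.comp_apply, hw]
        simp only [ψ, lift_fst, lift_snd, whiskerRight_fst, whiskerRight_snd, Over.comp_left, Over.id_left,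
          Scheme.Hom.comp_apply] at e1 e2
        rw [hx'] at e1
        show (snd T X).left z = x
        rw [← e2]
        simpa using e1
      · intro v hv
        rw [Set.mem_singleton_iff] at hv
        subst hv
        let p : ↥T.left := IsLocalRing.closedPoint (X.left.residueField v)
        refine ⟨(lift (𝟙 T) xT).left p, ⟨xT.left p, ?_⟩, ?_⟩
        · have e : xT ≫ lift (𝟙 X) (𝟙 X) = lift (𝟙 T) xT ≫ ψ := by
            apply CartesianMonoidalCategory.hom_ext <;> simp [ψ]
          rw [← Scheme.Hom.comp_apply, ← Over.comp_left, ← Scheme.Hom.comp_apply, ← Over.comp_left, e]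
        · rw [← Scheme.Hom.comp_apply, ← Over.comp_left, lift_snd, hx']
    rw [← himg]
    haveI : UniversallyOpen (snd T X).left :=
      inferInstanceAs (UniversallyOpen (pullback.snd T.hom X.hom))
    exact (snd T X).left.isOpenMap _ (hdiag.preimage ψ.left.continuous)
  haveI : JacobsonSpace X.left := LocallyOfFiniteType.jacobsonSpace X.hom
  haveI : DiscreteTopology ↥X.left := by
    refine discreteTopology_iff_isOpen_singleton.mpr fun y => hclosed y ?_
    obtain ⟨c, hcy, hcc⟩ := nonempty_inter_closedPoints (Z := closure ({y} : Set ↥X.left))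
      ⟨y, subset_closure rfl⟩ isClosed_closure.isLocallyClosed
    have : y = c := by
      obtain ⟨z, hz1, hz2⟩ := mem_closure_iff.mp hcy {c} (hclosed c hcc) rfl
      obtain rfl : z = c := hz1
      exact hz2.symm
    exact this ▸ hcc
  haveI : CompactSpace ↥G.left := (quasiCompact_iff_compactSpace G.hom).mp inferInstance
  haveI : CompactSpace ↥X.left := π.left.surjective.compactSpace π.left.continuous
  haveI : Finite ↥X.left := finite_of_compact_of_discrete
  obtain ⟨haff, hfin⟩ := H23.FinDiscrete.of_finite_over_field X.left X.hom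
  haveI := haff
  have hh := HasAffineProperty.iff_of_isAffine (P := @IsFinite) (f := X.hom)
  exact hh.mpr ⟨haff, hfin⟩

end Groth.Agent.AGStr
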