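import Groth.Agent.AGStr.GeomReduced
import Groth.Agent.GrpSchLib.FixedAffine
import Groth.Agent.H23.RatProductK
import Mathlib.AlgebraicGeometry.Group.Abelian

/-! A map from a product of pointed varieties to an abelian variety is a sum of maps from the factors. -/

universe u

open CategoryTheory Limits AlgebraicGeometry MonoidalCategory CartesianMonoidalCategory MonObj GrpObj
open CategoryTheory.Functor.Monoidal CategoryTheory.Functor.LaxMonoidal

namespace Groth.Agent.AGStr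

variable {k : Type u} [Field k]

/-- A nonempty open of a geometrically integral scheme is geometrically integral. -/
theorem geometricallyIntegral_open (X : Over (Spec (CommRingCat.of k))) [LocallyOfFiniteType X.hom]
    [GeometricallyIntegral X.hom] (U : X.left.Opens) (hU : (U : Set X.left).Nonempty) :
    GeometricallyIntegral (U.ι ≫ X.hom) := by
  refine H23.MaxAbelian.geometricallyIntegral_of_pullback _ fun L _ x => ?_
  haveI : IsIntegral (pullback X.hom x) :=
    GeometricallyIntegral.geometrically_isIntegral (f := X.hom) x _ _ (IsPullback.of_hasPullback _ _)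
  let m : pullback (U.ι ≫ X.hom) x ⟶ pullback X.hom x :=
    pullback.map (U.ι ≫ X.hom) x X.hom x U.ι (𝟙 _) (𝟙 _) (Category.comp_id _) (by simp)
  haveI : Nonempty ↥(pullback (U.ι ≫ X.hom) x) := by
    obtain ⟨u, hu⟩ := hU
    obtain ⟨z, hz, -⟩ := Scheme.Pullback.exists_preimage_pullback (f := U.ι ≫ X.hom) (g := x)
      (⟨u, hu⟩ : U) (IsLocalRing.closedPoint L) (@Subsingleton.elim (PrimeSpectrum k) inferInstance _ _)
    exact ⟨z⟩
  exact isIntegral_of_isOpenImmersion m

theorem comm_identity {M : Type*} [CommGroup M] (a b e p q : M) :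
    a * b * e⁻¹ = e * (q⁻¹ * p⁻¹) * (p * b * e⁻¹) * (a * q * e⁻¹) := by
  apply Additive.ofMul.injective
  simp only [ofMul_mul, ofMul_inv]
  abel

theorem formula_algClosed [IsAlgClosed k] (X Y A : Over (Spec (CommRingCat.of k)))
    [LocallyOfFiniteType X.hom] [IsSeparated X.hom] [GeometricallyIntegral X.hom]
    [LocallyOfFiniteType Y.hom] [IsSeparated Y.hom] [GeometricallyIntegral Y.hom]
    [GrpObj A] [IsProper A.hom] [GeometricallyIntegral A.hom]
    (x₀ : 𝟙_ (Over (Spec (CommRingCat.of k))) ⟶ X) (y₀ : 𝟙_ (Over (Spec (CommRingCat.of k))) ⟶ Y) (f : X ⊗ Y ⟶ A) :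
    f = (toUnit (X ⊗ Y) ≫ lift x₀ y₀ ≫ f)⁻¹ * (snd X Y ≫ lift (toUnit Y ≫ x₀) (𝟙 Y) ≫ f) *
      (fst X Y ≫ lift (𝟙 X) (toUnit X ≫ y₀) ≫ f) := by
  haveI : IsCommMonObj A := isCommMonObj_of_isProper_of_geometricallyIntegral A
  let pc : LocallyOfFinitePresentation X.hom := inferInstance
  let U : X.left.Opens := X.hom.smoothLocus
  let W : Y.left.Opens := Y.hom.smoothLocus
  haveI : IsIntegral X.left := H23.MaxAbelian.isIntegral_of_geometricallyIntegral
  haveI : IsIntegral Y.left := H23.MaxAbelian.isIntegral_of_geometricallyIntegral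
  have hU : (U : Set X.left).Nonempty := (dense_smoothLocus_of_geometricallyReduced X.hom).nonempty
  have hW : (W : Set Y.left).Nonempty := (dense_smoothLocus_of_geometricallyReduced Y.hom).nonempty
  let V' : Over (Spec (CommRingCat.of k)) := Over.mk (U.ι ≫ X.hom)
  let W' : Over (Spec (CommRingCat.of k)) := Over.mk (W.ι ≫ Y.hom)
  let i : V' ⟶ X := Over.homMk U.ι rfl
  let j : W' ⟶ Y := Over.homMk W.ι rfl
  haveI : Smooth V'.hom := by
    show Smooth (U.ι ≫ X.hom)
    rw [← Scheme.Hom.smoothLocus_eq_top_iff, ← Scheme.Hom.preimage_smoothLocus_eq]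
    exact Scheme.Opens.ι_preimage_self U
  haveI : Smooth W'.hom := by
    show Smooth (W.ι ≫ Y.hom)
    rw [← Scheme.Hom.smoothLocus_eq_top_iff, ← Scheme.Hom.preimage_smoothLocus_eq]
    exact Scheme.Opens.ι_preimage_self W
  haveI : IsSeparated V'.hom := inferInstanceAs (IsSeparated (U.ι ≫ X.hom))
  haveI : IsSeparated W'.hom := inferInstanceAs (IsSeparated (W.ι ≫ Y.hom))
  haveI : GeometricallyIntegral V'.hom := geometricallyIntegral_open X U hU
  haveI : GeometricallyIntegral W'.hom := geometricallyIntegral_open Y W hW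
  haveI : Nonempty V'.left := hU.to_subtype
  haveI : Nonempty W'.left := hW.to_subtype
  obtain ⟨v⟩ := H23.RatProductK.exists_point V'
  obtain ⟨w⟩ := H23.RatProductK.exists_point W'
  let φ : X ⟶ A := lift (𝟙 X) (toUnit X ≫ w ≫ j) ≫ f
  let ψ : Y ⟶ A := lift (toUnit Y ≫ v ≫ i) (𝟙 Y) ≫ f
  let c := lift (v ≫ i) (w ≫ j) ≫ f
  let D : X ⊗ Y ⟶ A := f * ((fst X Y ≫ φ) * (snd X Y ≫ ψ) * (toUnit _ ≫ c)⁻¹)⁻¹
  have hev : ∀ (T : Over (Spec (CommRingCat.of k))) (p : T ⟶ X) (q : T ⟶ Y), lift p q ≫ D =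
      (lift p q ≫ f) * ((lift p (toUnit T ≫ w ≫ j) ≫ f) * (lift (toUnit T ≫ v ≫ i) q ≫ f) *
        (toUnit T ≫ c)⁻¹)⁻¹ := by
    intro T p q
    have e1 : lift p q ≫ fst X Y ≫ φ = lift p (toUnit T ≫ w ≫ j) ≫ f := by
      simp [φ, comp_lift_assoc]
    have e2 : lift p q ≫ snd X Y ≫ ψ = lift (toUnit T ≫ v ≫ i) q ≫ f := by
      simp [ψ, comp_lift_assoc]
    simp only [D, MonObj.comp_mul, GrpObj.comp_inv, e1, e2, ← Category.assoc, comp_toUnit]
  have h1 : (i ⊗ₘ j) ≫ D = 1 := by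
    refine (H23.RatProduct.eq_const v w 1 _ ?_ ?_).trans (MonObj.comp_one _)
    · have ev : lift (𝟙 V') (toUnit V' ≫ w) ≫ (i ⊗ₘ j) = lift i (toUnit V' ≫ w ≫ j) := by ext <;> simp
      have e : lift (toUnit V' ≫ v ≫ i) (toUnit V' ≫ w ≫ j) ≫ f = toUnit V' ≫ c := by simp [c, comp_lift_assoc]
      rw [reassoc_of% ev, hev, e, MonObj.comp_one, mul_inv_cancel_right, mul_inv_cancel]
    · have ev : lift (toUnit W' ≫ v) (𝟙 W') ≫ (i ⊗ₘ j) = lift (toUnit W' ≫ v ≫ i) j := by ext <;> simp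
      have e : lift (toUnit W' ≫ v ≫ i) (toUnit W' ≫ w ≫ j) ≫ f = toUnit W' ≫ c := by simp [c, comp_lift_assoc]
      rw [reassoc_of% ev, hev, e, MonObj.comp_one]
      letI : CommGroup (W' ⟶ A) := Hom.commGroup
      simp [mul_comm, mul_left_comm]
  have hD : D = 1 := by
    haveI := H23.RatExt.geometricallyIntegral_prod X Y
    haveI : IsIntegral (X ⊗ Y).left := H23.MaxAbelian.isIntegral_of_geometricallyIntegral
    haveI : IsOpenImmersion (i ⊗ₘ j).left := by
      rw [Over.tensorHom_left]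
      haveI : IsOpenImmersion i.left := inferInstanceAs (IsOpenImmersion U.ι)
      haveI : IsOpenImmersion j.left := inferInstanceAs (IsOpenImmersion W.ι)
      infer_instance
    haveI : IsDominant (i ⊗ₘ j).left :=
      ⟨(i ⊗ₘ j).left.isOpenEmbedding.isOpen_range.dense ⟨_, (lift v w).left (IsLocalRing.closedPoint k), rfl⟩⟩
    haveI : IsSchemeTheoreticallyDominant (i ⊗ₘ j).left := .of_isDominant _
    refine GrpSchLib.FixedAffine.eq_of_dominant (i ⊗ₘ j) _ _ ?_
    rw [h1, MonObj.comp_one]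
  have hf : f = (fst X Y ≫ φ) * (snd X Y ≫ ψ) * (toUnit _ ≫ c)⁻¹ := mul_inv_eq_one.mp hD
  clear_value φ ψ c
  clear hev h1 hD
  have hval : ∀ (T : Over (Spec (CommRingCat.of k))) (p : T ⟶ X) (q : T ⟶ Y), lift p q ≫ f =
      (p ≫ φ) * (q ≫ ψ) * (toUnit T ≫ c)⁻¹ := by
    intro T p q
    rw [hf]
    simp [MonObj.comp_mul, GrpObj.comp_inv]
  rw [hval, hval, hval]
  simp only [MonObj.comp_mul, GrpObj.comp_inv, Category.id_comp, ← Category.assoc, comp_toUnit]
  simp only [Category.assoc, toUnit_unique (toUnit (𝟙_ (Over (Spec (CommRingCat.of k))))) (𝟙 _), Category.id_comp, Category.comp_id]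
  rw [hf]
  letI : CommGroup (X ⊗ Y ⟶ A) := Hom.commGroup
  generalize fst X Y ≫ φ = a
  generalize snd X Y ≫ ψ = b
  generalize toUnit (X ⊗ Y) ≫ c = e
  generalize toUnit (X ⊗ Y) ≫ x₀ ≫ φ = p
  generalize toUnit (X ⊗ Y) ≫ y₀ ≫ ψ = q
  simp only [_root_.mul_inv_rev, _root_.inv_inv]
  exact comm_identity a b e p q

theorem formula (X Y A : Over (Spec (CommRingCat.of k)))
    [LocallyOfFiniteType X.hom] [IsSeparated X.hom] [GeometricallyIntegral X.hom]
    [LocallyOfFiniteType Y.hom] [IsSeparated Y.hom] [GeometricallyIntegral Y.hom]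
    [GrpObj A] [IsProper A.hom] [GeometricallyIntegral A.hom]
    (x₀ : 𝟙_ (Over (Spec (CommRingCat.of k))) ⟶ X) (y₀ : 𝟙_ (Over (Spec (CommRingCat.of k))) ⟶ Y) (f : X ⊗ Y ⟶ A) :
    f = (toUnit (X ⊗ Y) ≫ lift x₀ y₀ ≫ f)⁻¹ * (snd X Y ≫ lift (toUnit Y ≫ x₀) (𝟙 Y) ≫ f) *
      (fst X Y ≫ lift (𝟙 X) (toUnit X ≫ y₀) ≫ f) := by
  let F := H23.RatProductK.bc k
  have : LocallyOfFiniteType (F.obj X).hom := inferInstanceAs (LocallyOfFiniteType (pullback.snd X.hom _))
  have : IsSeparated (F.obj X).hom := inferInstanceAs (IsSeparated (pullback.snd X.hom _))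
  have : GeometricallyIntegral (F.obj X).hom := inferInstanceAs (GeometricallyIntegral (pullback.snd X.hom _))
  have : LocallyOfFiniteType (F.obj Y).hom := inferInstanceAs (LocallyOfFiniteType (pullback.snd Y.hom _))
  have : IsSeparated (F.obj Y).hom := inferInstanceAs (IsSeparated (pullback.snd Y.hom _))
  have : GeometricallyIntegral (F.obj Y).hom := inferInstanceAs (GeometricallyIntegral (pullback.snd Y.hom _))
  have : IsProper (F.obj A).hom := inferInstanceAs (IsProper (pullback.snd A.hom _))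
  have : GeometricallyIntegral (F.obj A).hom := inferInstanceAs (GeometricallyIntegral (pullback.snd A.hom _))
  let : GrpObj (F.obj A) := Functor.grpObjObj
  let xb := Functor.LaxMonoidal.ε F ≫ F.map x₀
  let yb := Functor.LaxMonoidal.ε F ≫ F.map y₀
  let μ' := Functor.LaxMonoidal.μ F X Y
  have key := formula_algClosed (F.obj X) (F.obj Y) (F.obj A) xb yb (μ' ≫ F.map f)
  apply F.map_injective
  rw [← cancel_epi (μIso F X Y).hom]
  refine key.trans ?_
  have e1 : lift xb yb ≫ μ' = Functor.LaxMonoidal.ε F ≫ F.map (lift x₀ y₀) := by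
    simp only [xb, yb, μ', ← comp_lift, Category.assoc, lift_μ]
  have e2 : lift (toUnit (F.obj Y) ≫ xb) (𝟙 (F.obj Y)) ≫ μ' = F.map (lift (toUnit Y ≫ x₀) (𝟙 Y)) := by
    rw [← Category.assoc (toUnit _), toUnit_ε, ← F.map_comp, ← F.map_id, lift_μ]
  have e3 : lift (𝟙 (F.obj X)) (toUnit (F.obj X) ≫ yb) ≫ μ' = F.map (lift (𝟙 X) (toUnit X ≫ y₀)) := by
    rw [← Category.assoc (toUnit _), toUnit_ε, ← F.map_comp, ← F.map_id, lift_μ]
  have e4 : μ' ≫ F.map (toUnit (X ⊗ Y)) = toUnit _ ≫ Functor.LaxMonoidal.ε F := by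
    rw [← toUnit_ε, ← Category.assoc, comp_toUnit]
  rw [reassoc_of% e1, reassoc_of% e2, reassoc_of% e3, μIso_hom]
  simp only [Functor.map_mul, Functor.map_inv', MonObj.comp_mul, GrpObj.comp_inv, Functor.map_comp,
    μ', reassoc_of% e4, μ_fst_assoc, μ_snd_assoc]

end Groth.Agent.AGStr
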