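import Groth.Agent.GrpSchLib.AdjointQuot
import Groth.Agent.H23.Rigid
import Groth.Agent.H23.RigidGamma
import Mathlib.AlgebraicGeometry.Morphisms.Finite

/-! Proper connected subgroups against affine ones. -/

universe u

open CategoryTheory Limits AlgebraicGeometry MonoidalCategory CartesianMonoidalCategory MonObj GrpObj

namespace Groth.Agent.AGStr

variable {k : Type u} [Field k]

/-- A proper smooth connected group scheme over a field is geometrically integral. -/
theorem geometricallyIntegral_of_proper (A : Over (Spec (CommRingCat.of k))) [GrpObj A] [IsProper A.hom]
    [Smooth A.hom] [ConnectedSpace A.left] : GeometricallyIntegral A.hom := by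
  haveI := GrpSchLib.Adjoint.geometricallyIrreducible (G := A)
  haveI : GeometricallyReduced A.hom := H23.RigidGamma.geometricallyReduced_of_smooth A.hom
  exact GeometricallyIntegral.of_geometricallyReduced_of_geometricallyIrreducible _

/-- The intersection of a proper closed subscheme with an affine closed subscheme is finite. -/
theorem isFinite_inter {A N G P : Over (Spec (CommRingCat.of k))} {j : A ⟶ G} {i : N ⟶ G} {a : P ⟶ A}
    {b : P ⟶ N} [IsProper A.hom] [IsAffine N.left] [IsClosedImmersion j.left] [IsClosedImmersion i.left]
    (h : IsPullback a b j i) : IsFinite P.hom := by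
  have h' : IsPullback a.left b.left j.left i.left := h.map (Over.forget _)
  haveI : IsClosedImmersion a.left := MorphismProperty.of_isPullback h'.flip ‹IsClosedImmersion i.left›
  haveI : IsClosedImmersion b.left := MorphismProperty.of_isPullback h' ‹IsClosedImmersion j.left›
  haveI : IsProper P.hom := by rw [← Over.w a]; infer_instance
  haveI : IsAffineHom P.hom := by rw [← Over.w b]; infer_instance
  exact IsFinite.iff_isProper_and_isAffineHom.mpr ⟨inferInstance, inferInstance⟩

end Groth.Agent.AGStr
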