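import Groth.Agent.AGStr.Complement
import Groth.Agent.AGStr.Neutral

/-! Quasi-complements of abelian subvarieties over algebraically closed fields. -/

set_option linter.style.haveILetI false
set_option backward.isDefEq.respectTransparency false
set_option backward.isDefEq.respectTransparency.types false

universe u

open CategoryTheory CategoryTheory.Limits MonoidalCategory CartesianMonoidalCategory MonObj GrpObj AlgebraicGeometry

namespace Groth.Agent.AGStr.QuasiCompl

variable {k : Type u} [Field k] [IsAlgClosed k]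

theorem exists_quasiComplement (G A : Over (Spec (CommRingCat.of k))) [GrpObj G] [GrpObj A]
    [Smooth G.hom] [QuasiCompact G.hom] [ConnectedSpace G.left] [IsProper A.hom] [Smooth A.hom]
    [ConnectedSpace A.left] (i : A ⟶ G) [IsMonHom i] [IsClosedImmersion i.left] :
    ∃ (H : Over (Spec (CommRingCat.of k))) (_ : GrpObj H) (h : H ⟶ G), IsMonHom h ∧ IsClosedImmersion h.left ∧
      Smooth H.hom ∧ ConnectedSpace H.left ∧ AlgGrp.IsNormalHom h ∧ Surjective ((i ⊗ₘ h) ≫ μ[G]).left ∧
      IsFinite (Limits.pullback.fst i.left h.left ≫ A.hom) ∧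
      (∀ (T : Over (Spec (CommRingCat.of k))) (a : T ⟶ A) (m : T ⟶ H), (a ≫ i) * (m ≫ h) = (m ≫ h) * (a ≫ i)) := by
  obtain ⟨N, _, j, _, _, hn, -, hflat, -, hfin, hsm⟩ := Complement.exists_almostComplement i
  haveI := hsm inferInstance
  haveI : QuasiCompact N.hom := by rw [← Over.w j]; infer_instance
  haveI : LocallyOfFiniteType N.hom := inferInstance
  obtain ⟨H, _, i₀, _, hio, hic, hHft, hHqc, hHc, hHgi, -, hHsm, hr⟩ := exists_neutral N
  haveI := hio; haveI := hic; haveI := hHft; haveI := hHqc; haveI := hHc; haveI := hHgi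
  haveI := hHsm inferInstance
  haveI : Mono j := (Over.forget _).mono_of_mono_map (inferInstanceAs (Mono j.left))
  haveI : IsClosedImmersion (i₀ ≫ j).left := by rw [Over.comp_left]; infer_instance
  haveI := hflat
  have hcomm : ∀ (T : Over (Spec (CommRingCat.of k))) (a : T ⟶ A) (m : T ⟶ H),
      (a ≫ i) * (m ≫ i₀ ≫ j) = (m ≫ i₀ ≫ j) * (a ≫ i) := fun T a m => Complement.commute i _ _
  haveI := Complement.isMonHom_mulMap i (i₀ ≫ j) hcomm
  haveI : LocallyOfFiniteType (A ⊗ N).hom :=
    inferInstanceAs (LocallyOfFiniteType (Limits.pullback.fst A.hom N.hom ≫ A.hom))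
  haveI : LocallyOfFiniteType (A ⊗ H).hom :=
    inferInstanceAs (LocallyOfFiniteType (Limits.pullback.fst A.hom H.hom ≫ A.hom))
  haveI : QuasiCompact (A ⊗ H).hom := inferInstanceAs (QuasiCompact (Limits.pullback.fst A.hom H.hom ≫ A.hom))
  haveI : LocallyOfFiniteType ((i ⊗ₘ j) ≫ μ[G]).left := locallyOfFiniteType_left _
  haveI : IsLocallyNoetherian G.left := LocallyOfFiniteType.isLocallyNoetherian G.hom
  haveI : LocallyOfFinitePresentation ((i ⊗ₘ j) ≫ μ[G]).left := inferInstance
  haveI : UniversallyOpen ((i ⊗ₘ j) ≫ μ[G]).left := inferInstance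
  haveI : IsOpenImmersion (A ◁ i₀).left :=
    MorphismProperty.of_isPullback (GrpSchLib.isPullback_whiskerLeft (W := A) i₀).flip hio
  have e : (i ⊗ₘ (i₀ ≫ j)) ≫ μ[G] = (A ◁ i₀) ≫ (i ⊗ₘ j) ≫ μ[G] := by
    rw [← Category.assoc, whiskerLeft_comp_tensorHom]
  haveI : UniversallyOpen (A ◁ i₀).left := inferInstance
  have hopen : IsOpenMap ((A ◁ i₀).left ≫ ((i ⊗ₘ j) ≫ μ[G]).left) :=
    ((A ◁ i₀).left ≫ ((i ⊗ₘ j) ≫ μ[G]).left).isOpenMap
  refine ⟨H, inferInstance, i₀ ≫ j, inferInstance, inferInstance, inferInstance, inferInstance,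
    isNormalHom_comp_component j hn i₀ hr, ?_, ?_, hcomm⟩
  · refine surjective_of_isOpen_range _ ?_
    rw [e, Over.comp_left]
    exact hopen.isOpen_range
  · let p := Limits.pullback.fst i.left (i₀ ≫ j).left
    let w : Limits.pullback i.left (i₀ ≫ j).left ⟶ Limits.pullback i.left j.left :=
      Limits.pullback.lift p (Limits.pullback.snd i.left (i₀ ≫ j).left ≫ i₀.left)
        (by rw [Category.assoc, ← Over.comp_left, Limits.pullback.condition])
    haveI : IsClosedImmersion (w ≫ Limits.pullback.fst i.left j.left) := by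
      rw [Limits.pullback.lift_fst]
      exact MorphismProperty.pullback_fst _ _ ‹IsClosedImmersion (i₀ ≫ j).left›
    haveI : IsClosedImmersion w := IsClosedImmersion.of_comp w (Limits.pullback.fst i.left j.left)
    have hp : p ≫ A.hom = w ≫ Limits.pullback.fst i.left j.left ≫ A.hom := by
      rw [Limits.pullback.lift_fst_assoc]
    show IsFinite (p ≫ A.hom)
    rw [hp]
    haveI := hfin
    infer_instance

end Groth.Agent.AGStr.QuasiCompl
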