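import Groth.Agent.AVTrace.Retraction
import Groth.Agent.AGStr.ProperAffine

/-! An abelian subvariety of an algebraic group is a retract up to a positive integer. -/

set_option linter.style.haveILetI false

universe u

open CategoryTheory CategoryTheory.Limits MonoidalCategory CartesianMonoidalCategory MonObj GrpObj AlgebraicGeometry

namespace Groth.Agent.AGStr.QuasiRetr

variable {k : Type u} [Field k]

theorem geometricallyIntegral_of_smooth (G : Over (Spec (CommRingCat.of k))) [GrpObj G] [Smooth G.hom]
    [QuasiCompact G.hom] [ConnectedSpace G.left] : GeometricallyIntegral G.hom := by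
  haveI := GrpSchLib.Adjoint.geometricallyIrreducible (G := G)
  haveI : GeometricallyReduced G.hom := H23.RigidGamma.geometricallyReduced_of_smooth G.hom
  exact GeometricallyIntegral.of_geometricallyReduced_of_geometricallyIrreducible _

theorem exists_equivariant (G A : Over (Spec (CommRingCat.of k))) [GrpObj G] [GrpObj A] [LocallyOfFiniteType G.hom]
    [QuasiCompact G.hom] [Smooth G.hom] [ConnectedSpace G.left]
    (i : A ⟶ G) [IsMonHom i] [IsClosedImmersion i.left] [Smooth A.hom] [ConnectedSpace A.left] [IsProper A.hom] :
    ∃ (φ : G ⟶ A) (n : ℕ), 0 < n ∧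
      ∀ (T : Over (Spec (CommRingCat.of k))) (g : T ⟶ G) (a : T ⟶ A), (g * (a ≫ i)) ≫ φ = (g ≫ φ) * a ^ n := by
  haveI := geometricallyIntegral_of_smooth G
  haveI := geometricallyIntegral_of_proper A
  haveI := GrpSchLib.AntiAffine.isSeparated_grp G
  haveI : IsCommMonObj A := isCommMonObj_of_isProper_of_geometricallyIntegral A
  exact AVTrace.exists_equivariant i

end Groth.Agent.AGStr.QuasiRetr
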