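import Groth.Agent.AlgSpDec.LqfQuot
import Groth.Agent.AlgSpDec.QuotOpenMap
import Groth.Agent.AlgSpDec.QsDense
import Groth.Agent.AlgSpDec.OpenGlue
import Groth.Agent.AlgSpDec.LqfSplitZ
import Groth.Agent.AlgSpPts.Diag
import Groth.Agent.AlgSpPts.Quot

/-!
# Fppf charts of spaces: diagonal, points
-/

set_option backward.isDefEq.respectTransparency false
set_option backward.isDefEq.respectTransparency.types false
set_option linter.style.haveILetI false

universe u

open CategoryTheory Limits Opposite AlgebraicGeometry AlgSp Groth.Agent.AlgSpLib Groth.Agent.AlgSpPts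

namespace Groth.Agent.AGStr.QuotSpace

variable {S : Scheme.{u}} {F : Sp S}

/-- An fppf local property of the diagonal may be tested on an fppf chart. -/
theorem repWith_diag_of_fppf (P : MorphismProperty Scheme.{u}) [P.IsStableUnderBaseChange]
    [P.IsLocalAtTarget Scheme.fppfPrecoverage] (hr : Representable (Limits.diag F))
    {U R : Over S} (p : (yon S).obj U ⟶ F) (hp : RepWith Groth.Agent.AlgSpLib.fppf p)
    (t s : R ⟶ U) (sq : IsPullback ((yon S).map t) ((yon S).map s) p p) (h : P (prod.lift t s).left) :
    RepWith P (Limits.diag F) := by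
  let b : (yon S).obj (U ⨯ U) ⟶ F ⨯ F :=
    prod.lift ((yon S).map prod.fst ≫ p) ((yon S).map prod.snd ≫ p)
  have sqb := isPullback_diag sq ((yon S).map prod.fst) ((yon S).map prod.snd) (yon_prod_ext)
    ((yon S).map (prod.lift t s)) (by rw [← Functor.map_comp, prod.lift_fst])
    (by rw [← Functor.map_comp, prod.lift_snd])
  have : Sheaf.IsLocallySurjective b := isLocallySurjective_of_lifts b fun T z => by
    let u₁ := hp.rep.snd (z ≫ prod.fst)
    let w := (yon S).map u₁ ≫ z ≫ prod.snd
    let u₂ := hp.rep.snd w
    refine ⟨_, u₂ ≫ u₁, (yon S).map (prod.lift (u₂ ≫ hp.rep.fst' (z ≫ prod.fst)) (hp.rep.fst' w)),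
      (by rw [Over.comp_left]; exact MorphismProperty.comp_mem _ _ _ (hp.property_snd _) (hp.property_snd _)), ?_⟩
    apply prod.hom_ext
    · simp only [b, Category.assoc, prod.lift_fst]
      rw [← Category.assoc, ← Functor.map_comp, prod.lift_fst, Functor.map_comp, Category.assoc,
        Functor.relativelyRepresentable.map_fst', hp.rep.w, Functor.map_comp, Category.assoc]
    · simp only [b, Category.assoc, prod.lift_snd]
      rw [← Category.assoc, ← Functor.map_comp, prod.lift_snd,
        Functor.relativelyRepresentable.map_fst', hp.rep.w, Functor.map_comp, Category.assoc]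
  exact repWith_of_locallySurjective hr b sqb P ((repWith_yon_map_iff _ _).2 h)

/-- Points lift to a surjective chart. -/
theorem exists_ofPt_chart {U : Over S} (p : (yon S).obj U ⟶ F) (hp : RepWith @Surjective p)
    (x : Points F) : ∃ y : U.left, Points.ofPt p y = x := by
  obtain ⟨T, g, t, -, rfl⟩ := exists_ofPt_eq x
  haveI : Surjective (hp.rep.snd g).left := hp.property_snd g
  obtain ⟨w, hw⟩ := (hp.rep.snd g).left.surjective t
  refine ⟨(hp.rep.fst' g).left w, ?_⟩
  rw [← hw, ← ofPt_comp, ← ofPt_comp, Functor.relativelyRepresentable.map_fst', hp.rep.w]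

end Groth.Agent.AGStr.QuotSpace
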