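import Groth.Agent.GrpSchLib.AffineHopf
import Groth.Agent.AGStr.Descend
import Groth.Prelude.Def_Red
import Mathlib.RingTheory.Bialgebra.MonoidAlgebra
import Mathlib.LinearAlgebra.FreeModule.PID
import Mathlib.Algebra.Module.Projective

/-! Exact sequences of split tori split. -/

universe u

open CategoryTheory Limits AlgebraicGeometry MonoidalCategory CartesianMonoidalCategory MonObj GrpObj
open WithConv

namespace Groth.Agent.AGStr

open GrpSchLib.AffineHopf

variable {k : Type u} [Field k]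

/-- Coordinate ring of the split torus. -/
abbrev Co (k : Type u) [Field k] (n : ℕ) : Type u := MonoidAlgebra k (Multiplicative (Fin n → ℤ))

/-- The map of split tori given by a map of characters. -/
noncomputable def tMap {g q : ℕ} (φ : Multiplicative (Fin q → ℤ) →* Multiplicative (Fin g → ℤ)) :
    sp k (Co k g) ⟶ sp k (Co k q) :=
  spMap ((MonoidAlgebra.mapDomainBialgHom k φ : Co k q →ₐc[k] Co k g) : Co k q →ₐ[k] Co k g)

instance {g q : ℕ} (φ : Multiplicative (Fin q → ℤ) →* Multiplicative (Fin g → ℤ)) :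
    IsMonHom (tMap (k := k) φ) := isMonHom_spMap _

theorem exists_eq_tMap {g q : ℕ} (f : sp k (Co k g) ⟶ sp k (Co k q)) [IsMonHom f] :
    ∃ φ, f = tMap φ := by
  obtain ⟨h, rfl⟩ := exists_bialgHom f
  exact ⟨MonoidAlgebra.mapDomainOfBialgHom h, by rw [tMap, MonoidAlgebra.mapDomainBialgHom_mapDomainOfBialgHom]⟩

theorem tMap_injective {g q : ℕ} {φ φ' : Multiplicative (Fin q → ℤ) →* Multiplicative (Fin g → ℤ)}
    (h : tMap (k := k) φ = tMap φ') : φ = φ' := by
  refine MonoidHom.ext fun x => ?_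
  have h1 := DFunLike.congr_fun (spMap_injective h) (MonoidAlgebra.single x (1 : k))
  change MonoidAlgebra.mapDomainBialgHom k φ _ = MonoidAlgebra.mapDomainBialgHom k φ' _ at h1
  rw [MonoidAlgebra.mapDomainBialgHom_single, MonoidAlgebra.mapDomainBialgHom_single] at h1
  exact MonoidAlgebra.single_left_injective one_ne_zero h1

theorem tMap_comp {g q r : ℕ} (φ : Multiplicative (Fin q → ℤ) →* Multiplicative (Fin g → ℤ))
    (θ : Multiplicative (Fin r → ℤ) →* Multiplicative (Fin q → ℤ)) :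
    tMap (k := k) φ ≫ tMap θ = tMap (φ.comp θ) := by
  rw [tMap, tMap, tMap, spMap_comp]
  congr 1
  refine MonoidAlgebra.algHom_ext (fun m => ?_) (by ext)
  show MonoidAlgebra.mapDomainBialgHom k φ (MonoidAlgebra.mapDomainBialgHom k θ (MonoidAlgebra.single m (1 : k))) = MonoidAlgebra.mapDomainBialgHom k (φ.comp θ) (MonoidAlgebra.single m (1 : k))
  simp

theorem tMap_id (g : ℕ) : tMap (k := k) (MonoidHom.id (Multiplicative (Fin g → ℤ))) = 𝟙 _ := by
  rw [tMap, ← spMap_id]
  congr 1
  refine MonoidAlgebra.algHom_ext (fun m => ?_) (by ext)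
  show MonoidAlgebra.mapDomainBialgHom k (MonoidHom.id (Multiplicative (Fin g → ℤ))) (MonoidAlgebra.single m (1 : k)) = _
  simp

theorem tMap_one {g q : ℕ} :
    tMap (k := k) (1 : Multiplicative (Fin q → ℤ) →* Multiplicative (Fin g → ℤ)) = 1 := by
  have h : (1 : Multiplicative (Fin q → ℤ) →* Multiplicative (Fin g → ℤ)) =
      (1 : Multiplicative (Fin 0 → ℤ) →* Multiplicative (Fin g → ℤ)).comp 1 := (MonoidHom.one_comp _).symm
  refine Eq.trans ?_ (MonObj.comp_one (tMap (k := k) (1 : Multiplicative (Fin 0 → ℤ) →* Multiplicative (Fin g → ℤ))))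
  rw [h, ← tMap_comp]
  congr 1
  rw [tMap]
  have e : (1 : sp k (Co k 0) ⟶ sp k (Co k q)) = spMap (1 : WithConv (Co k q →ₐ[k] Co k 0)).ofConv :=
    (map_one Spec.mapMulEquiv).symm
  rw [e]
  congr 1
  refine MonoidAlgebra.algHom_ext (fun m => ?_) (by ext)
  show MonoidAlgebra.mapDomainBialgHom k _ (MonoidAlgebra.single m (1 : k)) = _
  simp [AlgHom.convOne_apply, Subsingleton.elim _ (1 : Multiplicative (Fin 0 → ℤ)), MonoidAlgebra.one_def]

/-- A character map giving the trivial homomorphism is trivial. -/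
theorem eq_one_of_tMap {g q : ℕ} {φ : Multiplicative (Fin q → ℤ) →* Multiplicative (Fin g → ℤ)}
    (h : tMap (k := k) φ = 1) : φ = 1 := by
  refine MonoidHom.ext fun x => ?_
  have h2 : tMap (k := k) φ * tMap φ = tMap φ := by rw [h, _root_.mul_one]
  rw [tMap, spMap_mul] at h2
  have h1 := DFunLike.congr_fun (spMap_injective h2) (MonoidAlgebra.single x (1 : k))
  simp only [AlgHom.convMul_apply, (MonoidAlgebra.isGroupLikeElem_single_one (R := k) x).comul_eq_tmul_self,
    TensorProduct.map_tmul, LinearMap.mul'_apply] at h1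
  change MonoidAlgebra.mapDomainBialgHom k φ _ * MonoidAlgebra.mapDomainBialgHom k φ _ =
    MonoidAlgebra.mapDomainBialgHom k φ _ at h1
  rw [MonoidAlgebra.mapDomainBialgHom_single, MonoidAlgebra.single_mul_single, _root_.mul_one] at h1
  exact mul_eq_left.mp (MonoidAlgebra.single_left_injective one_ne_zero h1)

theorem exists_retraction {g q : ℕ} (φ : Multiplicative (Fin q → ℤ) →* Multiplicative (Fin g → ℤ))
    (hinj : Function.Injective φ) (hsat : ∀ (m : ℕ), 0 < m → ∀ v w, v ^ m = φ w → ∃ w', φ w' = v) :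
    ∃ r : Multiplicative (Fin g → ℤ) →* Multiplicative (Fin q → ℤ), r.comp φ = MonoidHom.id _ := by
  let L : (Fin q → ℤ) →ₗ[ℤ] (Fin g → ℤ) := (AddMonoidHom.mk' (fun x => (φ (Multiplicative.ofAdd x)).toAdd) (fun x y => by simp [ofAdd_add])).toIntLinearMap
  have hL : ∀ x, L x = (φ (Multiplicative.ofAdd x)).toAdd := fun x => rfl
  let Q := (Fin g → ℤ) ⧸ LinearMap.range L
  haveI : Module.IsTorsionFree ℤ Q := by
    refine Module.IsTorsionFree.of_smul_eq_zero fun c x hx => ?_
    obtain ⟨v, rfl⟩ := Submodule.mkQ_surjective _ x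
    refine or_iff_not_imp_left.mpr fun hc => ?_
    rw [← map_smul, Submodule.mkQ_apply, Submodule.Quotient.mk_eq_zero] at hx
    have hx' : (c.natAbs : ℤ) • v ∈ LinearMap.range L := by
      rcases Int.natAbs_eq c with h | h
      · rwa [← h]
      · rw [show (c.natAbs : ℤ) = -c by omega, neg_smul]
        exact neg_mem hx
    obtain ⟨w, hw⟩ := hx'
    obtain ⟨w', hw'⟩ := hsat c.natAbs (Int.natAbs_pos.mpr hc) (Multiplicative.ofAdd v) (Multiplicative.ofAdd w) (by
      apply Multiplicative.toAdd.injective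
      rw [← hL, hw, toAdd_pow, toAdd_ofAdd, natCast_zsmul])
    rw [Submodule.mkQ_apply, Submodule.Quotient.mk_eq_zero]
    exact ⟨w'.toAdd, by rw [hL, ofAdd_toAdd, hw', toAdd_ofAdd]⟩
  haveI : Module.Free ℤ Q := Module.free_of_finite_type_torsion_free'
  obtain ⟨s, hs⟩ := Module.projective_lifting_property (LinearMap.range L).mkQ LinearMap.id
    (Submodule.mkQ_surjective _)
  let p : (Fin g → ℤ) →ₗ[ℤ] LinearMap.range L :=
    LinearMap.codRestrict _ (LinearMap.id - s.comp (LinearMap.range L).mkQ) fun x => by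
      rw [← Submodule.Quotient.mk_eq_zero, ← Submodule.mkQ_apply, LinearMap.sub_apply, map_sub]
      have := LinearMap.congr_fun hs ((LinearMap.range L).mkQ x)
      simp only [LinearMap.comp_apply, LinearMap.id_apply] at this ⊢
      rw [this, sub_self]
  have hLinj : Function.Injective L := fun x y h =>
    Multiplicative.ofAdd.injective (hinj (Multiplicative.toAdd.injective h))
  let e := LinearEquiv.ofInjective L hLinj
  let r := (e.symm.toLinearMap.comp p).toAddMonoidHom.toMultiplicative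
  refine ⟨r, MonoidHom.ext fun w => ?_⟩
  apply Multiplicative.toAdd.injective
  show e.symm (p (L w.toAdd)) = w.toAdd
  rw [LinearEquiv.symm_apply_eq]
  refine Subtype.ext ?_
  show L w.toAdd - s ((LinearMap.range L).mkQ (L w.toAdd)) = L w.toAdd
  rw [show (LinearMap.range L).mkQ (L w.toAdd) = 0 from (Submodule.Quotient.mk_eq_zero _).mpr ⟨_, rfl⟩,
    map_zero, sub_zero]

theorem desc_of_kernel {N G Q Y : Over (Spec (CommRingCat.of k))} [GrpObj G] [GrpObj Q] [GrpObj Y]
    (i : N ⟶ G) (π : G ⟶ Q) [IsMonHom π] [Flat π.left] [Surjective π.left] [QuasiCompact π.left]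
    (f : G ⟶ Y) [IsMonHom f] (hker : AlgGrp.IsKernel i π) (hif : i ≫ f = 1) : ∃ u : Q ⟶ Y, π ≫ u = f := by
  refine exists_desc π f fun T g₁ g₂ hg => ?_
  obtain ⟨l, hl⟩ : ∃ l : T ⟶ N, l ≫ i = g₁ * g₂⁻¹ := ⟨hker.lift (g₁ * g₂⁻¹) (toUnit T) (by
    rw [MonObj.mul_comp, GrpObj.inv_comp, hg, mul_inv_cancel]
    rfl), hker.lift_fst _ _ _⟩
  have h5 : (g₁ * g₂⁻¹) ≫ f = 1 := by rw [← hl, Category.assoc, hif, MonObj.comp_one]
  rw [MonObj.mul_comp, GrpObj.inv_comp, mul_inv_eq_one] at h5
  exact h5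

/-- Exact sequences of split tori split. -/
theorem exists_section {nK nG nQ : ℕ} (i : sp k (Co k nK) ⟶ sp k (Co k nG)) [IsMonHom i]
    (π : sp k (Co k nG) ⟶ sp k (Co k nQ)) [IsMonHom π] [Flat π.left] [Surjective π.left]
    (hker : AlgGrp.IsKernel i π) :
    ∃ s : sp k (Co k nQ) ⟶ sp k (Co k nG), IsMonHom s ∧ s ≫ π = 𝟙 _ := by
  obtain ⟨φ, hφ⟩ := exists_eq_tMap π
  obtain ⟨ψ, hψ⟩ := exists_eq_tMap i
  haveI : IsAffine (sp k (Co k nG)).left := isAffine_Spec _
  haveI : IsAffine (sp k (Co k nQ)).left := isAffine_Spec _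
  haveI : IsAffineHom π.left := isAffineHom_of_isAffine π.left
  haveI : QuasiCompact π.left := inferInstance
  haveI : Epi π := epi_left π
  let χ : ∀ {n : ℕ}, Multiplicative (Fin n → ℤ) → (Multiplicative (Fin 1 → ℤ) →* Multiplicative (Fin n → ℤ)) :=
    fun {n} v => (AddMonoidHom.toMultiplicative
      { toFun := fun x : Fin 1 → ℤ => x 0 • v.toAdd, map_zero' := by simp, map_add' := fun x y => by simp [add_smul] })
  have hχ : ∀ {n : ℕ} (v : Multiplicative (Fin n → ℤ)), χ v (Multiplicative.ofAdd 1) = v := fun v => by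
    show Multiplicative.ofAdd ((1 : ℤ) • v.toAdd) = v
    rw [one_smul, ofAdd_toAdd]
  have hinj : Function.Injective φ := fun a b hab => by
    have h : π ≫ tMap (χ a) = π ≫ tMap (χ b) := by
      rw [hφ, tMap_comp, tMap_comp]
      congr 1
      refine MonoidHom.ext fun x => ?_
      apply Multiplicative.toAdd.injective
      show (φ (Multiplicative.ofAdd (x.toAdd 0 • a.toAdd))).toAdd = (φ (Multiplicative.ofAdd (x.toAdd 0 • b.toAdd))).toAdd
      rw [ofAdd_zsmul, ofAdd_zsmul, ofAdd_toAdd, ofAdd_toAdd, map_zpow φ, map_zpow φ, hab]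
    have h1 := DFunLike.congr_fun (tMap_injective ((cancel_epi π).mp h)) (Multiplicative.ofAdd 1)
    rwa [hχ, hχ] at h1
  have hsat : ∀ (m : ℕ), 0 < m → ∀ v w, v ^ m = φ w → ∃ w', φ w' = v := by
    intro m hm v w hvw
    have hw0 : i ≫ π = 1 := hker.w.trans (by rw [MonObj.one_eq_one, MonObj.comp_one])
    rw [hψ, hφ, tMap_comp] at hw0
    have h1 : ψ v ^ m = 1 := by
      rw [← map_pow, hvw]
      exact DFunLike.congr_fun (eq_one_of_tMap hw0) w
    have h2 : ψ v = 1 := by
      apply Multiplicative.toAdd.injective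
      have h3 := congrArg Multiplicative.toAdd h1
      rw [toAdd_pow, toAdd_one] at h3
      exact (smul_eq_zero.mp h3).resolve_left hm.ne'
    have hiv : i ≫ tMap (χ v) = 1 := by
      rw [hψ, tMap_comp]
      have e : ψ.comp (χ v) = 1 := MonoidHom.ext fun x => by
        apply Multiplicative.toAdd.injective
        show (ψ (Multiplicative.ofAdd (x.toAdd 0 • v.toAdd))).toAdd = 0
        rw [ofAdd_zsmul, ofAdd_toAdd, map_zpow ψ, h2, one_zpow, toAdd_one]
      rw [e]
      exact tMap_one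
    obtain ⟨u, hu⟩ := desc_of_kernel i π (tMap (χ v)) hker hiv
    obtain ⟨f, rfl⟩ := exists_eq_spMap u
    rw [hφ, tMap, tMap, spMap_comp] at hu
    have h6 := DFunLike.congr_fun (spMap_injective hu) (MonoidAlgebra.single (Multiplicative.ofAdd 1) (1 : k))
    change MonoidAlgebra.mapDomainBialgHom k φ (f _) = MonoidAlgebra.mapDomainBialgHom k (χ v) _ at h6
    rw [MonoidAlgebra.mapDomainBialgHom_single, hχ] at h6
    by_contra hno
    push Not at hno
    have h7 := congrArg (fun z => z.coeff v) h6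
    change (MonoidAlgebra.mapDomain φ _).coeff v = (MonoidAlgebra.single v (1 : k)).coeff v at h7
    simp only [MonoidAlgebra.coeff_mapDomain, MonoidAlgebra.coeff_single, Finsupp.single_eq_same] at h7
    rw [Finsupp.mapDomain_notin_range _ _ (fun ⟨w', h⟩ => hno w' h)] at h7
    exact zero_ne_one h7
  obtain ⟨r, hr⟩ := exists_retraction φ hinj hsat
  exact ⟨tMap r, inferInstance, by rw [hφ, tMap_comp, hr, tMap_id]⟩

end Groth.Agent.AGStr
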